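import Cfsg.Agent.JThreeRecog.Main

/-!
Elements of the model of the centraliser and the relations of the amalgam with one more involution.
-/

set_option autoImplicit false

namespace Cfsg.Agent.JThreeUniq

open Cfsg.Agent.JThreeRecog Cfsg.Agent.HallJanko Equiv

/-- An even permutation from its lists of images. -/
def per (f g : Fin 5 → Fin 5) (h1 : ∀ i, g (f i) = i := by decide) (h2 : ∀ i, f (g i) = i := by decide)
    (h3 : Perm.sign (⟨f, g, h1, h2⟩ : Perm (Fin 5)) = 1 := by decide) : A5 :=
  ⟨⟨f, g, h1, h2⟩, by rw [Equiv.Perm.mem_alternatingGroup]; exact h3⟩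

/-- An element of the extraspecial part. -/
def qel (m : M) : W := SemidirectProduct.inl m

/-- An element of the complement. -/
def pel (σ : A5) : W := SemidirectProduct.inr σ

/-- The second involution of the four group. -/
def uW : W := qel (M.e 3)

/-- The involution that fixes the central one and moves the second. -/
def sW : W := qel (M.e 4)

/-- The element of order three. -/
def yW : W := pel (per ![1, 2, 0, 3, 4] ![2, 0, 1, 3, 4])

/-- A further element of order three in the centraliser of the four group. -/
def pW : W := pel (per ![0, 2, 4, 3, 1] ![0, 4, 1, 3, 2])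

/-- An element of order four in the centraliser of the four group. -/
def qW : W := qel (M.e 0 * M.e 1)

/-- The image of `pW`. -/
def pW' : W := qel ⟨1, 0, 1, 1, 1⟩ * pel (per ![1, 4, 2, 3, 0] ![4, 0, 2, 3, 1])

/-- The image of `qW`. -/
def qW' : W := qel ⟨1, 1, 0, 1, 1⟩ * pel (per ![1, 0, 4, 3, 2] ![1, 0, 4, 3, 2])

/-- The involution exchanging the two four groups. -/
def hW : W := pel (per ![1, 0, 2, 4, 3] ![1, 0, 2, 4, 3])

variable {H : Type*} [Group H]

/-- The relations of the second parabolic. -/
structure Para (Φ : W →* H) (g : H) : Prop where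
  sq : g * g = 1
  gz : g * Φ zW * g = Φ uW
  gu : g * Φ uW * g = Φ zW
  gy : g * Φ yW * g = Φ yW
  gp : g * Φ pW * g = Φ pW'
  gq : g * Φ qW * g = Φ qW'
  rot : (g * Φ sW) ^ 3 = 1

/-- The word in the centraliser of the element of order three. -/
def octWord (Φ : W →* H) (g : H) : H := g * Φ hW * g * Φ (hW * zW)

/-- The relations of the amalgam, with a power of the element of order three. -/
structure Rel (Φ : W →* H) (g : H) (j : ℕ) : Prop extends Para Φ g where
  oct : octWord Φ g ^ 4 = Φ (yW ^ j)

end Cfsg.Agent.JThreeUniq
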