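import Cfsg.Agent.JThreeUniq.Cert0.Inst
import Cfsg.Agent.JThreeUniq.Cert1.Inst
import Cfsg.Agent.JThreeUniq.Cert2.Inst

/-!
The bounds for the three powers of the element of order three.
-/

set_option autoImplicit false

namespace Cfsg.Agent.JThreeUniq

open Cfsg.Agent.JThreeRecog

universe v

theorem finite_model : Finite W := Nat.finite_of_card_ne_zero (by rw [card_W]; norm_num)

/-- The good case. -/
theorem bound_zero (H : Type v) [Group H] [Finite H] (Φ : W →* H) (g : H) (h : Rel Φ g 0)
    (hg : Subgroup.closure (Set.range Φ ∪ {g}) = ⊤) : Nat.card H ≤ 150698880 :=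
  haveI := finite_model
  le_trans (Cert0.bound H Φ g h hg) (by norm_num)

/-- The other cases. -/
theorem bound_kill (H : Type v) [Group H] [Finite H] (Φ : W →* H) (g : H) {j : ℕ} (hj : j = 1 ∨ j = 2)
    (h : Rel Φ g j) (hg : Subgroup.closure (Set.range Φ ∪ {g}) = ⊤) : Nat.card H ≤ 604800 := by
  haveI := finite_model
  rcases hj with rfl | rfl
  · exact le_trans (Cert1.bound H Φ g h hg) (by norm_num)
  · exact le_trans (Cert2.bound H Φ g h hg) (by norm_num)

end Cfsg.Agent.JThreeUniq
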