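import Cfsg.Agent.JThreeUniq.Basic
import Cfsg.Agent.DCoset.PermModel
import Cfsg.Agent.DCoset.Emit

/-!
The model as affine maps of its extraspecial part, for the tables of the certificates.
-/

set_option autoImplicit false
set_option maxRecDepth 100000
set_option linter.all false

namespace Cfsg.Agent.JThreeUniq

open Cfsg.Agent.JThreeRecog Cfsg.Agent.HallJanko Equiv
open Cfsg.Agent.DCoset (Tab QModel Acts pk16)
open Cfsg.Agent.CosetCert (force force_eq)

/-- The position of a point. -/
def code (m : M) : Fin 32 :=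
  ⟨16 * m.a.val + 8 * m.b0.val + 4 * m.b1.val + 2 * m.b2.val + m.b3.val, by
    have h : ∀ a : ZMod 2, a.val < 2 := fun a => ZMod.val_lt a
    have := h m.a; have := h m.b0; have := h m.b1; have := h m.b2; have := h m.b3
    omega⟩

/-- A point. -/
def pnt (i : Fin 32) : M :=
  ⟨JThreeRecog.bit i 4, JThreeRecog.bit i 3, JThreeRecog.bit i 2, JThreeRecog.bit i 1, JThreeRecog.bit i 0⟩

theorem pnt_code : ∀ m : M, pnt (code m) = m := by decide +kernel

theorem code_pnt : ∀ i, code (pnt i) = i := by decide +kernel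

/-- The points. -/
def ptEquiv : M ≃ Fin 32 := ⟨code, pnt, pnt_code, code_pnt⟩

/-- The affine map. -/
def affHom : W →* Perm M where
  toFun w := (permAct w.right).toEquiv.trans (Equiv.mulLeft w.left)
  map_one' := by ext x <;> simp
  map_mul' a b := by
    refine Equiv.ext fun x => ?_
    simp [SemidirectProduct.mul_left, SemidirectProduct.mul_right, mul_assoc]

theorem affHom_apply (w : W) (x : M) : affHom w x = w.left * act (toP w.right) x := by
  rw [← permAct_apply]; rfl

/-- The action on the positions. -/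
def pr : W →* Perm (Fin 32) := ptEquiv.permCongrHom.toMonoidHom.comp affHom

theorem pr_apply (w : W) (i : Fin 32) : pr w i = code (w.left * act (toP w.right) (pnt i)) := by
  rw [← affHom_apply]; rfl

/-- A five-cycle. -/
def fiveW : W := pel (per ![1, 2, 3, 4, 0] ![4, 0, 1, 2, 3])

/-- The letters of the tables. -/
def lq (g : ℕ) : W :=
  [zW, qel (M.e 0), qel (M.e 1), qel (M.e 2), qel (M.e 3), yW,
    pel (per ![2, 0, 1, 3, 4] ![1, 2, 0, 3, 4]), fiveW,
    pel (per ![4, 0, 1, 2, 3] ![1, 2, 3, 4, 0]), hW].getD g 1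

theorem lq_gen : Subgroup.closure {x | ∃ g, g < 10 ∧ x = lq g} = ⊤ := by
  set S := Subgroup.closure {x | ∃ g, g < 10 ∧ x = lq g}
  have hg : ∀ g, g < 10 → lq g ∈ S := fun g h => Subgroup.subset_closure ⟨g, h, rfl⟩
  have hM : ∀ m : M, qel m ∈ S := fun m => by
    show SemidirectProduct.inl m ∈ S
    have hz : qel M.zM ∈ S := hg 0 (by norm_num)
    rw [M.decomp m]
    simp only [map_mul]
    refine mul_mem (mul_mem (mul_mem (mul_mem ?_ ?_) ?_) ?_) ?_
    · rcases z2_cases m.a with h | h <;> rw [h]
      · rw [M.zp_zero, map_one]; exact one_mem _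
      · rw [M.zp_one]; exact hz
    all_goals split_ifs
    all_goals first | (rw [map_one]; exact one_mem _) | exact hz | exact hg 1 (by norm_num) |
      exact hg 2 (by norm_num) | exact hg 3 (by norm_num) | exact hg 4 (by norm_num)
  have hax : (SemidirectProduct.inr ax : W) ∈ S := hg 5 (by norm_num)
  have hay : (SemidirectProduct.inr ay : W) ∈ S := by
    have e : (SemidirectProduct.inr ay : W) = fiveW * fiveW := by
      rw [fiveW, pel, ← map_mul]
      exact congrArg SemidirectProduct.inr (by decide +kernel)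
    exact e ▸ mul_mem (hg 7 (by norm_num)) (hg 7 (by norm_num))
  rw [eq_top_iff]
  intro w _
  obtain ⟨j, i, hσ⟩ := ax_ay w.right
  rw [← SemidirectProduct.inl_left_mul_inr_right w]
  refine mul_mem (hM _) ?_
  rw [hσ, map_mul, map_pow, map_list_prod, List.map_map]
  refine mul_mem (pow_mem hay _) (list_prod_mem fun x hx => ?_)
  obtain ⟨b, -, rfl⟩ := List.mem_map.1 hx
  cases b
  · exact hay
  · exact hax

/-- The letters undo the table. -/
def actOK (M : Tab) : Prop :=
  ∀ g < 10, ∀ p : Fin 32, M.act g p < 32 ∧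
    (code ((toT (lq g)).1 * act (toT (lq g)).2 (pnt ⟨M.act g p % 32, Nat.mod_lt _ (by norm_num)⟩))).val = p.val

/-- A point of the base. -/
def bpt (bs : List ℕ) (l : ℕ) : Fin 32 := ⟨bs.getD l 0 % 32, Nat.mod_lt _ (by norm_num)⟩

theorem acts {T₀ : Tab} {bs : List ℕ} (hn : T₀.nL = 10) (hact : actOK T₀)
    (hlt : ∀ g p, T₀.act g p < 65536) (hbase : T₀.base = pk16 T₀.k fun l => (bpt bs l).val) :
    Acts pr T₀ lq (bpt bs) where
  small := by norm_num
  act_lt := hlt
  base_eq := hbase
  act_eq g hg p := by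
    rw [hn] at hg
    obtain ⟨h1, h2⟩ := hact g hg p
    have e : pr (lq g) ⟨T₀.act g p, h1⟩ = p := by
      refine Fin.ext ?_
      rw [pr_apply]
      simp only [Nat.mod_eq_of_lt h1] at h2
      exact h2
    conv_rhs => rw [← e, Equiv.Perm.inv_def, Equiv.symm_apply_apply]

/-- The model of a table and a chain. -/
noncomputable def wModel [Finite W] {T₀ : Tab} {bs : List ℕ} (A : Acts pr T₀ lq (bpt bs))
    (K : QModel.Chain) (hK : ((List.range T₀.k).map K.size).prod = 1920)
    (hg : ∀ l a, l < T₀.k → a < K.nGen l → QModel.checkGen T₀ K l a = true)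
    (hp : ∀ l m, l < T₀.k → m < K.size l → QModel.checkPt T₀ K l m = true) : QModel W :=
  A.toQModel (A.faithful K card_W.le hK hg hp)

end Cfsg.Agent.JThreeUniq
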