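import Cfsg.Agent.JThreeUniq.Basic
import Cfsg.Agent.JThreeRecog.Main
import Cfsg.Agent.JThreeRecog.WLocal
import Cfsg.Agent.S3035
import Cfsg.Agent.Core.PCore

/-!
The centraliser of an element of order three modulo that element is alternating of degree six, with the relations
of the five-cycles that follow from it.
-/

set_option autoImplicit false
set_option maxRecDepth 100000
set_option linter.all false

namespace Cfsg.Agent.JThreeUniq

open Cfsg.Agent.JThreeRecog Cfsg.Agent.HallJanko Equiv Subgroup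

namespace CThree

/-- The three-cycle of the complement. -/
def sigY : A5 := ⟨swap 0 1 * swap 1 2, Perm.mem_alternatingGroup.2 (by decide +kernel)⟩

/-- The involution of the complement inverting the three-cycle. -/
def sigH : A5 := ⟨swap 0 1 * swap 3 4, Perm.mem_alternatingGroup.2 (by decide +kernel)⟩

/-- The element of order three. -/
def wy : W := SemidirectProduct.inr sigY

/-- The inverting involution. -/
def wh : W := SemidirectProduct.inr sigH

/-- The first involution of the dihedral group. -/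
def we3 : W := SemidirectProduct.inl (M.e 3)

/-- The second involution of the dihedral group. -/
def we4 : W := SemidirectProduct.inl (M.e 4)

theorem toT_wy : toT wy = ((1 : M), 1, 2, 0, 3, 4) := Prod.ext rfl (by decide +kernel)

theorem toT_wh : toT wh = ((1 : M), 1, 0, 2, 4, 3) := Prod.ext rfl (by decide +kernel)

theorem toT_inl (m : M) : toT (SemidirectProduct.inl m : W) = (m, 0, 1, 2, 3, 4) := rfl

theorem toT_we3 : toT we3 = (⟨0, 0, 0, 0, 1⟩, 0, 1, 2, 3, 4) := rfl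

theorem toT_we4 : toT we4 = (⟨0, 1, 1, 1, 1⟩, 0, 1, 2, 3, 4) := rfl

/-- Turn an identity of the model into a check on tuples. -/
theorem eq_of_toT {a b : W} {s t : T} (ha : toT a = s) (hb : toT b = t) (h : s = t) : a = b :=
  toT_injective (by rw [ha, hb, h])

theorem basic :
    wy ^ 3 = 1 ∧ wy ≠ 1 ∧ wh * wh = 1 ∧ wh * wy * wh = wy⁻¹ ∧ wh * we3 * wh = we4 ∧ wh * zW * wh = zW ∧
    we3 * wy = wy * we3 ∧ we4 * wy = wy * we4 ∧ zW * wy = wy * zW ∧
    we3 * we4 * (we3 * we4) = zW ∧ we3 * we3 = 1 ∧ we4 * we4 = 1 := by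
  have hinv : wy⁻¹ = wy * wy := by
    refine inv_eq_of_mul_eq_one_right (toT_injective ?_)
    rw [toT_mul, toT_mul, toT_wy, toT_one]
    decide +kernel
  rw [hinv, pow_succ, pow_two]
  refine ⟨?_, ?_, ?_, ?_, ?_, ?_, ?_, ?_, ?_, ?_, ?_, ?_⟩
  pick_goal 2
  · intro h
    have := congrArg toT h
    rw [toT_wy, toT_one] at this
    revert this
    decide +kernel
  all_goals
    refine toT_injective ?_
    simp only [toT_mul, toT_wy, toT_wh, toT_we3, toT_we4, toT_zW, toT_one]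
    decide +kernel

/-- The dihedral group inside the extraspecial group. -/
def dM : DihedralGroup 4 → M
  | .r i => (M.e 3 * M.e 4) ^ i.val
  | .sr i => M.e 3 * (M.e 3 * M.e 4) ^ i.val

theorem dM_mul : ∀ a b : DihedralGroup 4, dM (a * b) = dM a * dM b := by decide +kernel

theorem dM_inj : ∀ a : DihedralGroup 4, dM a = 1 → a = 1 := by decide +kernel

/-- The dihedral group inside the model. -/
def dW : DihedralGroup 4 →* W :=
  (SemidirectProduct.inl : M →* W).comp (MonoidHom.mk' dM dM_mul)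

theorem cent_tuples : ((List.range 1920).all fun n =>
    !(tmul (dec n) (1, 1, 2, 0, 3, 4) == tmul (1, 1, 2, 0, 3, 4) (dec n)) ||
      decide (∃ d : DihedralGroup 4, ∃ i : Fin 3,
        dec n = tmul (dM d, 0, 1, 2, 3, 4) (tpow (1, 1, 2, 0, 3, 4) i.val))) = true := by
  decide +kernel

theorem toT_pow' (w : W) : ∀ n, toT (w ^ n) = tpow (toT w) n
  | 0 => by rw [pow_zero, toT_one]; rfl
  | n + 1 => by rw [pow_succ, toT_mul, toT_pow' w n]; rfl

theorem cent_wy {w : W} (hw : w * wy = wy * w) : ∃ (d : DihedralGroup 4) (i : ℕ), w = dW d * wy ^ i := by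
  obtain ⟨hlt, hdec⟩ := dec_eq w
  have h := List.all_eq_true.1 cent_tuples _ (List.mem_range.2 hlt)
  simp only [hdec, Bool.or_eq_true, Bool.not_eq_true', beq_eq_false_iff_ne, decide_eq_true_eq] at h
  rcases h with h | ⟨d, i, h⟩
  · refine absurd ?_ h
    have := congrArg toT hw
    rwa [toT_mul, toT_mul, toT_wy] at this
  · refine ⟨d, i.val, toT_injective ?_⟩
    rw [toT_mul, toT_pow', toT_wy, h]
    rfl

theorem right_dW (d : DihedralGroup 4) : (dW d).right = 1 := rfl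

/-- Tuples of six letters. -/
abbrev P6 : Type := Fin 6 × Fin 6 × Fin 6 × Fin 6 × Fin 6 × Fin 6

/-- The image of a letter. -/
def ev6 : P6 → Fin 6 → Fin 6
  | (a, b, c, d, e, f), i => match i.val with
    | 0 => a
    | 1 => b
    | 2 => c
    | 3 => d
    | 4 => e
    | _ => f

/-- Tuples of a permutation. -/
def toP6 (s : alternatingGroup (Fin 6)) : P6 :=
  ((s : Perm (Fin 6)) 0, (s : Perm (Fin 6)) 1, (s : Perm (Fin 6)) 2, (s : Perm (Fin 6)) 3, (s : Perm (Fin 6)) 4,
    (s : Perm (Fin 6)) 5)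

theorem ev6_toP6 (s : alternatingGroup (Fin 6)) : ∀ i, ev6 (toP6 s) i = (s : Perm (Fin 6)) i := by
  intro i
  fin_cases i <;> rfl

theorem toP6_injective : Function.Injective toP6 := fun g h e =>
  Subtype.ext (Equiv.ext fun i => by rw [← ev6_toP6, ← ev6_toP6, e])

/-- The product of tuples. -/
def pm6 : P6 → P6 → P6
  | p, (a, b, c, d, e, f) => (ev6 p a, ev6 p b, ev6 p c, ev6 p d, ev6 p e, ev6 p f)

theorem toP6_mul (a b : alternatingGroup (Fin 6)) : toP6 (a * b) = pm6 (toP6 a) (toP6 b) := by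
  show _ = (ev6 (toP6 a) _, ev6 (toP6 a) _, ev6 (toP6 a) _, ev6 (toP6 a) _, ev6 (toP6 a) _, ev6 (toP6 a) _)
  simp only [ev6_toP6]
  rfl

/-- The identity tuple. -/
def one6 : P6 := (0, 1, 2, 3, 4, 5)

/-- The involutions. -/
def inv6 : List P6 :=
  [(0, 1, 3, 2, 5, 4),
   (0, 1, 4, 5, 2, 3),
   (0, 1, 5, 4, 3, 2),
   (0, 2, 1, 3, 5, 4),
   (0, 2, 1, 4, 3, 5),
   (0, 2, 1, 5, 4, 3),
   (0, 3, 2, 1, 5, 4),
   (0, 3, 4, 1, 2, 5),
   (0, 3, 5, 1, 4, 2),
   (0, 4, 2, 5, 1, 3),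
   (0, 4, 3, 2, 1, 5),
   (0, 4, 5, 3, 1, 2),
   (0, 5, 2, 4, 3, 1),
   (0, 5, 3, 2, 4, 1),
   (0, 5, 4, 3, 2, 1),
   (1, 0, 2, 3, 5, 4),
   (1, 0, 2, 4, 3, 5),
   (1, 0, 2, 5, 4, 3),
   (1, 0, 3, 2, 4, 5),
   (1, 0, 4, 3, 2, 5),
   (1, 0, 5, 3, 4, 2),
   (2, 1, 0, 3, 5, 4),
   (2, 1, 0, 4, 3, 5),
   (2, 1, 0, 5, 4, 3),
   (2, 3, 0, 1, 4, 5),
   (2, 4, 0, 3, 1, 5),
   (2, 5, 0, 3, 4, 1),
   (3, 1, 2, 0, 5, 4),
   (3, 1, 4, 0, 2, 5),
   (3, 1, 5, 0, 4, 2),
   (3, 2, 1, 0, 4, 5),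
   (3, 4, 2, 0, 1, 5),
   (3, 5, 2, 0, 4, 1),
   (4, 1, 2, 5, 0, 3),
   (4, 1, 3, 2, 0, 5),
   (4, 1, 5, 3, 0, 2),
   (4, 2, 1, 3, 0, 5),
   (4, 3, 2, 1, 0, 5),
   (4, 5, 2, 3, 0, 1),
   (5, 1, 2, 4, 3, 0),
   (5, 1, 3, 2, 4, 0),
   (5, 1, 4, 3, 2, 0),
   (5, 2, 1, 3, 4, 0),
   (5, 3, 2, 1, 4, 0),
   (5, 4, 2, 3, 1, 0)]

theorem inv6_complete : ∀ s : alternatingGroup (Fin 6), s * s = 1 → s ≠ 1 → toP6 s ∈ inv6 := by decide +kernel

/-- The standard involution. -/
def z6 : alternatingGroup (Fin 6) := ⟨swap 0 1 * swap 2 3, Perm.mem_alternatingGroup.2 (by decide +kernel)⟩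

theorem toP6_z6 : toP6 z6 = (1, 0, 3, 2, 4, 5) := by decide +kernel

/-- Conjugating permutations. -/
def conjs6 : List (Perm (Fin 6)) :=
  [swap 0 4 * swap 1 5,
   swap 0 4 * swap 1 5 * swap 2 5,
   swap 0 4 * swap 1 5 * swap 2 4,
   swap 0 4 * swap 2 4 * swap 3 5,
   swap 0 4 * swap 2 4,
   swap 0 5 * swap 2 5,
   swap 0 4 * swap 2 5 * swap 3 4,
   swap 0 4 * swap 3 4,
   swap 0 5 * swap 3 5,
   swap 0 4 * swap 2 5,
   swap 0 4,
   swap 0 4 * swap 3 5,
   swap 0 5 * swap 2 4,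
   swap 0 5,
   swap 0 5 * swap 3 4,
   swap 2 4 * swap 3 5,
   swap 2 4,
   swap 2 5,
   1,
   swap 3 4,
   swap 3 5,
   swap 1 4 * swap 2 4 * swap 3 5,
   swap 1 4 * swap 2 4,
   swap 1 5 * swap 2 5,
   swap 1 2,
   swap 1 2 * swap 3 4,
   swap 1 2 * swap 3 5,
   swap 1 4 * swap 2 5 * swap 3 4,
   swap 1 4 * swap 3 4,
   swap 1 5 * swap 3 5,
   swap 1 3,
   swap 1 3 * swap 2 4,
   swap 1 3 * swap 2 5,
   swap 1 4 * swap 2 5,
   swap 1 4,
   swap 1 4 * swap 3 5,
   swap 1 3 * swap 3 4,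
   swap 1 2 * swap 2 4,
   swap 1 2 * swap 2 4 * swap 3 5,
   swap 1 5 * swap 2 4,
   swap 1 5,
   swap 1 5 * swap 3 4,
   swap 1 3 * swap 3 5,
   swap 1 2 * swap 2 5,
   swap 1 2 * swap 2 5 * swap 3 4]

theorem conj_std : ∀ s : alternatingGroup (Fin 6), s * s = 1 → s ≠ 1 →
    ∃ c ∈ conjs6, c * (s : Perm (Fin 6)) * c⁻¹ = (z6 : Perm (Fin 6)) := by decide +kernel

theorem five_table : (inv6.all fun a => inv6.all fun b =>
    !(pm6 (pm6 a b) (pm6 a b) == (1, 0, 3, 2, 4, 5)) || (inv6.all fun g =>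
      !(pm6 (pm6 g (1, 0, 3, 2, 4, 5)) g == a) || (inv6.all fun k =>
        !(pm6 (pm6 k (1, 0, 3, 2, 4, 5)) k == b) ||
          ((pm6 (pm6 (pm6 (pm6 (pm6 g k) (pm6 g k)) (pm6 g k)) (pm6 g k)) (pm6 g k) == one6) &&
            (let w := pm6 (pm6 g k) (1, 0, 3, 2, 4, 5); pm6 (pm6 (pm6 w w) w) w == one6))))) = true := by
  decide +kernel

/-- In the alternating group of degree six the products in question have order five. -/
theorem five_key {a b g k z : alternatingGroup (Fin 6)} (ha : a * a = 1) (hb : b * b = 1)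
    (hab : a * b * (a * b) = z) (hz1 : z ≠ 1) (hz2 : z * z = 1) (hg : g * g = 1) (hgz : g * z * g = a)
    (hk : k * k = 1) (hkz : k * z * k = b) : (g * k) ^ 5 = 1 ∧ (g * k * z) ^ 4 = 1 := by
  have ha1 : a ≠ 1 := fun h => hz1 (by rw [← hab, h, one_mul, hb])
  have hb1 : b ≠ 1 := fun h => hz1 (by rw [← hab, h, mul_one, ha])
  have hg1 : g ≠ 1 := fun h => by
    rw [h, one_mul, mul_one] at hgz
    rw [hgz, mul_assoc] at hab
    have e : b * (a * b) = 1 := mul_left_cancel (hab.trans (mul_one a).symm)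
    refine ha1 ?_
    calc a = b * b * a * (b * b) := by rw [hb, one_mul, mul_one]
      _ = b * (b * (a * b)) * b := by group
      _ = 1 := by rw [e, mul_one, hb]
  have hk1 : k ≠ 1 := fun h => by
    rw [h, one_mul, mul_one] at hkz
    rw [hkz, ← mul_assoc] at hab
    have e : a * b * a = 1 := mul_right_cancel (hab.trans (one_mul b).symm)
    refine hb1 ?_
    calc b = a * a * b * (a * a) := by rw [ha, one_mul, mul_one]
      _ = a * (a * b * a) * a := by group
      _ = 1 := by rw [e, mul_one, ha]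
  have ha' := toP6_z6
  obtain ⟨c, -, hc⟩ := conj_std z hz2 hz1
  let f : MulAut (alternatingGroup (Fin 6)) := MulAut.conjNormal c
  have hfz : f z = z6 := Subtype.ext (by rw [MulAut.conjNormal_apply]; exact hc)
  have key : ∀ x, x ≠ 1 → x * x = 1 → toP6 (f x) ∈ inv6 := fun x h1 h2 =>
    inv6_complete _ (by rw [← map_mul, h2, map_one]) fun e => h1 (f.injective (by rw [e, map_one]))
  have h := five_table
  simp only [List.all_eq_true] at h
  have h' := h _ (key a ha1 ha) _ (key b hb1 hb)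
  simp only [← toP6_mul, ← map_mul, hab, hfz, toP6_z6, beq_self_eq_true, Bool.not_true, Bool.false_or,
    List.all_eq_true] at h'
  have h'' := h' _ (key g hg1 hg)
  rw [← toP6_z6, ← toP6_mul, ← toP6_mul, ← hfz, ← map_mul, ← map_mul, hgz] at h''
  simp only [beq_self_eq_true, Bool.not_true, Bool.false_or, List.all_eq_true] at h''
  have h3 := h'' _ (key k hk1 hk)
  simp only [← toP6_mul, ← map_mul, hkz, beq_self_eq_true, Bool.not_true, Bool.false_or, beq_iff_eq,
    Bool.and_eq_true] at h3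
  have h1 : one6 = toP6 (f 1) := by rw [map_one]; rfl
  rw [h1] at h3
  constructor
  · rw [← f.injective (toP6_injective h3.1)]
    simp [pow_succ]
  · rw [← f.injective (toP6_injective h3.2)]
    simp [pow_succ]

/-- An element of order seven in the linear group. -/
def sl7 : Matrix.SpecialLinearGroup (Fin 3) (ZMod 2) := ⟨!![0, 0, 1; 1, 0, 1; 0, 1, 0], by decide +kernel⟩

theorem sl7_pow : sl7 ^ 7 = 1 := by decide +kernel

theorem sl7_ne : sl7 ≠ 1 := by decide +kernel

theorem card_ker_sign (n : ℕ) (hn : n = 4 ∨ n = 5) : ¬ 8 ∣ Nat.card (alternatingGroup (Fin n)) := by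
  rcases hn with rfl | rfl <;> rw [nat_card_alternatingGroup, Nat.card_fin] <;> decide

/-- A group with all involutions of a dihedral centraliser fused is not symmetric of degree four or five. -/
theorem not_symm {X : Type*} [Group X] {n : ℕ} (hn : n = 4 ∨ n = 5) (φ : X ≃* Perm (Fin n)) {a b z g k : X}
    (ψ : DihedralGroup 4 →* X) (hψ : Function.Injective ψ)
    (hr : ψ (.r 1) = a * b) (hs : ψ (.sr 0) = a) (hz : a * b * (a * b) = z)
    (hg : g * z * g = a) (hgg : g * g = 1) (hk : k * z * k = b) (hkk : k * k = 1) : False := by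
  classical
  let sgn : X →* ℤˣ := Perm.sign.comp φ.toMonoidHom
  have hz1 : sgn z = 1 := by rw [← hz, map_mul]; exact Int.units_mul_self _
  have ha : sgn a = 1 := by
    rw [← hg, map_mul, map_mul, hz1, mul_one]; exact Int.units_mul_self _
  have hb : sgn b = 1 := by
    rw [← hk, map_mul, map_mul, hz1, mul_one]; exact Int.units_mul_self _
  have hd : ∀ d, φ (ψ d) ∈ alternatingGroup (Fin n) := by
    intro d
    rw [Perm.mem_alternatingGroup]
    show sgn (ψ d) = 1
    have hr' : ∀ i : ZMod 4, sgn (ψ (.r i)) = 1 := fun i => by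
      rw [← ZMod.natCast_zmod_val i, ← DihedralGroup.r_one_pow, map_pow, map_pow, hr, map_mul, ha, hb, mul_one,
        one_pow]
    rcases d with i | i
    · exact hr' i
    · rw [show (DihedralGroup.sr i : DihedralGroup 4) = .sr 0 * .r i by rw [DihedralGroup.sr_mul_r, zero_add],
        map_mul, map_mul, hs, ha, hr', mul_one]
  have hinj : Function.Injective ((φ.toMonoidHom.comp ψ).codRestrict (alternatingGroup (Fin n)) hd) :=
    fun x y h => hψ (φ.injective (congrArg Subtype.val h))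
  have h8 : Nat.card (DihedralGroup 4) = 8 := by rw [DihedralGroup.nat_card]
  exact card_ker_sign n hn (h8 ▸ Subgroup.card_dvd_of_injective _ hinj)


variable {G : Type*} [Group G]

section

variable (D : JT G)

/-- The element of order three. -/
noncomputable abbrev y3 : G := D.emb wy
/-- The inverting involution. -/
noncomputable abbrev h3 : G := D.emb wh
/-- The first involution of the dihedral group. -/
noncomputable abbrev e3 : G := D.emb we3
/-- The second involution of the dihedral group. -/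
noncomputable abbrev e4 : G := D.emb we4
/-- The centraliser of the element of order three. -/
noncomputable abbrev C3 : Subgroup G := Subgroup.centralizer ({y3 D} : Set G)

instance y3_normal : ((zpowers (y3 D)).subgroupOf (C3 D)).Normal := by
  refine ⟨fun n hn c => ?_⟩
  rw [mem_subgroupOf] at hn ⊢
  have hc : (c : G) * n = n * c := by
    obtain ⟨i, hi⟩ := hn
    have hc' : Commute (c : G) (y3 D) := Subgroup.mem_centralizer_singleton_iff.1 c.2
    rw [← hi]; exact (hc'.zpow_right i).eq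
  simp only [Subgroup.coe_mul, Subgroup.coe_inv]
  rwa [hc, mul_inv_cancel_right]

theorem relsW :
    y3 D ^ 3 = 1 ∧ y3 D ≠ 1 ∧ h3 D * h3 D = 1 ∧ h3 D * y3 D * h3 D = (y3 D)⁻¹ ∧ h3 D * e3 D * h3 D = e4 D ∧
    h3 D * D.z * h3 D = D.z ∧ e3 D * y3 D = y3 D * e3 D ∧ e4 D * y3 D = y3 D * e4 D ∧ D.z * y3 D = y3 D * D.z ∧
    e3 D * e4 D * (e3 D * e4 D) = D.z ∧ e3 D * e3 D = 1 ∧ e4 D * e4 D = 1 := by
  obtain ⟨a1, a2, a3, a4, a5, a6, a7, a8, a9, a10, a11, a12⟩ := basic
  refine ⟨?_, ?_, ?_, ?_, ?_, ?_, ?_, ?_, ?_, ?_, ?_, ?_⟩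
  · rw [← map_pow, a1, map_one]
  · exact fun h => a2 (D.inj (h.trans (map_one _).symm))
  · rw [← map_mul, a3, map_one]
  · rw [← map_mul, ← map_mul, a4, map_inv]
  · rw [← map_mul, ← map_mul, a5]
  · rw [← D.emb_z, ← map_mul, ← map_mul, a6]
  · rw [← map_mul, a7, map_mul]
  · rw [← map_mul, a8, map_mul]
  · rw [← D.emb_z, ← map_mul, a9, map_mul]
  · rw [← map_mul, ← map_mul, a10, D.emb_z]
  · rw [← map_mul, a11, map_one]
  · rw [← map_mul, a12, map_one]

variable [Finite G] [IsSimpleGroup G]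

/-- The quotient of the centraliser is alternating of degree six. -/
theorem quot_equiv (g : G) (hgg : g * g = 1) (hgz : g * D.z * g = e3 D) (hgy : g * y3 D * g = y3 D) :
    Nonempty ((↥(C3 D) ⧸ (zpowers (y3 D)).subgroupOf (C3 D)) ≃* alternatingGroup (Fin 6)) := by
  classical
  obtain ⟨hy3, hy1, hhh, hhy, hhe, hhz, h3y, h4y, hzy, h34, h33, h44⟩ := relsW D
  set N := (zpowers (y3 D)).subgroupOf (C3 D) with hN
  have memC : ∀ {c : G}, c * y3 D = y3 D * c → c ∈ C3 D := fun hc => Subgroup.mem_centralizer_singleton_iff.2 hc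
  let π : ↥(C3 D) →* ↥(C3 D) ⧸ N := QuotientGroup.mk' N
  have hπ1 : ∀ c, π c = 1 ↔ (c : G) ∈ zpowers (y3 D) := fun c =>
    (QuotientGroup.eq_one_iff c).trans Subgroup.mem_subgroupOf
  -- the dihedral centraliser
  have hdy : ∀ d, D.emb (dW d) * y3 D = y3 D * D.emb (dW d) := by
    intro d
    rw [← map_mul, ← map_mul]
    refine congrArg D.emb (toT_injective ?_)
    rw [toT_mul, toT_mul, toT_wy]
    exact (show ∀ d, tmul (dM d, 0, 1, 2, 3, 4) ((1 : M), 1, 2, 0, 3, 4) =
      tmul ((1 : M), 1, 2, 0, 3, 4) (dM d, 0, 1, 2, 3, 4) by decide +kernel) d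
  let ψ : DihedralGroup 4 →* ↥(C3 D) ⧸ N :=
    π.comp ((D.emb.comp dW).codRestrict (C3 D) fun d => memC (hdy d))
  have hψinj : Function.Injective ψ := by
    rw [injective_iff_map_eq_one]
    intro d hd
    have hmem : D.emb (dW d) ∈ zpowers (y3 D) := (hπ1 _).1 hd
    obtain ⟨i, hi⟩ := Subgroup.mem_zpowers_iff.1 hmem
    rw [← map_zpow] at hi
    have hw := D.inj hi
    have hright : sigY ^ i = 1 := by
      have h := congrArg SemidirectProduct.rightHom hw
      rw [map_zpow] at h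
      exact h.trans (right_dW d)
    have : dW d = 1 := by
      rw [← hw, show wy = SemidirectProduct.inr sigY from rfl, ← map_zpow, hright, map_one]
    exact dM_inj d (congrArg SemidirectProduct.left this)
  set a := π ⟨e3 D, memC h3y⟩ with ha
  set b := π ⟨e4 D, memC h4y⟩ with hb
  set z := π ⟨D.z, memC hzy⟩ with hz
  have hgC : g ∈ C3 D := memC (by
    calc g * y3 D = g * y3 D * (g * g) := by rw [hgg, mul_one]
      _ = g * y3 D * g * g := by rw [← mul_assoc]
      _ = y3 D * g := by rw [hgy])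
  set g1 := h3 D * g * h3 D with hg1
  have hinvY : g * (y3 D)⁻¹ * g = (y3 D)⁻¹ := by
    have hgi : g⁻¹ = g := inv_eq_of_mul_eq_one_right hgg
    conv_rhs => rw [← hgy, mul_inv_rev, mul_inv_rev, hgi, ← mul_assoc]
  have hhi : (h3 D)⁻¹ = h3 D := inv_eq_of_mul_eq_one_right hhh
  have hg11 : g1 * g1 = 1 := by
    rw [hg1, show h3 D * g * h3 D * (h3 D * g * h3 D) = h3 D * g * (h3 D * h3 D) * g * h3 D by group, hhh,
      mul_one, mul_assoc (h3 D) g g, hgg, mul_one, hhh]
  have hg1y : g1 * y3 D * g1 = y3 D := by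
    rw [hg1, show h3 D * g * h3 D * y3 D * (h3 D * g * h3 D) = h3 D * (g * (h3 D * y3 D * h3 D) * g) * h3 D by group,
      hhy, hinvY, ← hhy]
    calc h3 D * (h3 D * y3 D * h3 D) * h3 D = (h3 D * h3 D) * y3 D * (h3 D * h3 D) := by group
      _ = y3 D := by rw [hhh, one_mul, mul_one]
  have hg1z : g1 * D.z * g1 = e4 D := by
    rw [hg1, show h3 D * g * h3 D * D.z * (h3 D * g * h3 D) = h3 D * (g * (h3 D * D.z * h3 D) * g) * h3 D by group,
      hhz, hgz, hhe]
  have hg1C : g1 ∈ C3 D := memC (by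
    calc g1 * y3 D = g1 * y3 D * (g1 * g1) := by rw [hg11, mul_one]
      _ = g1 * y3 D * g1 * g1 := by rw [← mul_assoc]
      _ = y3 D * g1 := by rw [hg1y])
  set γ := π ⟨g, hgC⟩ with hγ
  set κ := π ⟨g1, hg1C⟩ with hκ
  have eγ : γ * z * γ = a := by
    rw [hγ, hz, ha, ← map_mul, ← map_mul]; exact congrArg π (Subtype.ext hgz)
  have eκ : κ * z * κ = b := by
    rw [hκ, hz, hb, ← map_mul, ← map_mul]; exact congrArg π (Subtype.ext hg1z)
  have eγ2 : γ * γ = 1 := by rw [hγ, ← map_mul]; exact (congrArg π (Subtype.ext hgg)).trans (map_one π)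
  have eκ2 : κ * κ = 1 := by rw [hκ, ← map_mul]; exact (congrArg π (Subtype.ext hg11)).trans (map_one π)
  have eab : a * b * (a * b) = z := by
    rw [ha, hb, hz, ← map_mul, ← map_mul]; exact congrArg π (Subtype.ext h34)
  have hψr : ψ (.r 1) = a * b := by
    rw [ha, hb, ← map_mul]
    refine congrArg π (Subtype.ext ?_)
    show D.emb (dW (.r 1)) = D.emb we3 * D.emb we4
    rw [← map_mul]
    exact congrArg D.emb (toT_injective (by rw [toT_mul, toT_we3, toT_we4]; decide +kernel))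
  have hψs : ψ (.sr 0) = a := by
    rw [ha]
    refine congrArg π (Subtype.ext ?_)
    show D.emb (dW (.sr 0)) = D.emb we3
    exact congrArg D.emb (toT_injective (by rw [toT_we3]; decide +kernel))
  have hψz : ψ (.r 2) = z := by
    rw [← eab, ← hψr, ← map_mul, DihedralGroup.r_mul_r]
    rfl
  have hzne : z ≠ 1 := by
    rw [← hψz, ← map_one ψ]
    exact fun h => absurd (hψinj h) (by decide)
  have hz2 : z * z = 1 := by
    rw [← hψz, ← map_mul, ← map_one ψ]; exact congrArg ψ (by decide)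
  have hzord : orderOf z = 2 := orderOf_eq_prime (hp := ⟨Nat.prime_two⟩) (by rw [pow_two, hz2]) hzne
  -- the centraliser of the image of the involution
  have hcent : ∀ x : ↥(C3 D) ⧸ N, x * z = z * x ↔ ∃ d, ψ d = x := by
    intro x
    constructor
    · intro hx
      obtain ⟨c, rfl⟩ := QuotientGroup.mk'_surjective N x
      have hc : (c : G) * y3 D = y3 D * c := Subgroup.mem_centralizer_singleton_iff.1 c.2
      have hu : ((c * ⟨D.z, memC hzy⟩ * c⁻¹ * (⟨D.z, memC hzy⟩)⁻¹ : C3 D) : G) ∈ zpowers (y3 D) := by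
        rw [← hπ1, map_mul, map_mul, map_mul, map_inv, map_inv, ← hz, hx, mul_inv_cancel_right, mul_inv_cancel]
      simp only [Subgroup.coe_mul, Subgroup.coe_inv] at hu
      obtain ⟨i, hi⟩ := Subgroup.mem_zpowers_iff.1 hu
      have hcomm : Commute (y3 D ^ i) D.z := (show Commute (y3 D) D.z from hzy.symm).zpow_left i
      have h1 : (c : G) * D.z * (c : G)⁻¹ = y3 D ^ i * D.z := by rw [hi]; group
      have h2 : y3 D ^ i * y3 D ^ i = 1 := by
        have h : (c : G) * D.z * (c : G)⁻¹ * ((c : G) * D.z * (c : G)⁻¹) = 1 := by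
          rw [show (c : G) * D.z * (c : G)⁻¹ * ((c : G) * D.z * (c : G)⁻¹) = c * (D.z * D.z) * (c : G)⁻¹ by group,
            D.zz]; group
        rw [h1, mul_assoc, ← mul_assoc D.z, ← hcomm.eq, mul_assoc (y3 D ^ i) D.z, D.zz, mul_one] at h
        exact h
      have h3' : (y3 D ^ i) ^ 3 = 1 := by
        rw [← zpow_natCast, ← zpow_mul, mul_comm, zpow_mul, zpow_natCast, hy3, one_zpow]
      have h4 : y3 D ^ i = 1 := by
        rw [pow_succ, pow_two, h2, one_mul] at h3'; exact h3'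
      rw [h4, one_mul, mul_inv_eq_iff_eq_mul] at h1
      obtain ⟨w, hw⟩ := D.onto (c : G) h1
      have hwy : w * wy = wy * w := D.inj (by rw [map_mul, map_mul, hw]; exact hc)
      obtain ⟨d, j, hdj⟩ := cent_wy hwy
      refine ⟨d, ?_⟩
      show π _ = π c
      rw [← mul_inv_eq_one, ← map_inv, ← map_mul, hπ1]
      simp only [Subgroup.coe_mul, Subgroup.coe_inv, MonoidHom.coe_comp, Function.comp_apply]
      show D.emb (dW d) * (c : G)⁻¹ ∈ _
      rw [← hw, hdj, map_mul, mul_inv_rev]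
      have hcd : Commute (D.emb (dW d)) (D.emb (wy ^ j))⁻¹ := by
        rw [map_pow]; exact ((show Commute (D.emb (dW d)) (y3 D) from hdy d).pow_right j).inv_right
      rw [← mul_assoc, hcd.eq, mul_inv_cancel_right, map_pow]
      exact inv_mem (pow_mem (Subgroup.mem_zpowers _) _)
    · rintro ⟨d, rfl⟩
      rw [← hψz, ← map_mul, ← map_mul]
      exact congrArg ψ ((by decide : ∀ d : DihedralGroup 4, d * .r 2 = .r 2 * d) d)
  have hC : Nonempty (↥(Subgroup.centralizer ({z} : Set (↥(C3 D) ⧸ N))) ≃* DihedralGroup 4) := by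
    refine ⟨(MulEquiv.ofBijective (ψ.codRestrict _ fun d =>
      Subgroup.mem_centralizer_singleton_iff.2 ((hcent _).2 ⟨d, rfl⟩)) ⟨fun u v h =>
        hψinj (congrArg Subtype.val h), fun x => ?_⟩).symm⟩
    obtain ⟨d, hd⟩ := (hcent x.1).1 (Subgroup.mem_centralizer_singleton_iff.1 x.2)
    exact ⟨d, Subtype.ext hd⟩
  rcases S3035.result z hzord hC with h | ⟨⟨φ⟩⟩ | ⟨⟨φ⟩⟩ | ⟨⟨φ⟩⟩ | h
  · exfalso
    haveI hOn : (Cfsg.oddCore (↥(C3 D) ⧸ N)).Normal := pPrimeCore_normal 2 _
    have hmem : γ ∈ Subgroup.centralizer ({z} : Set _) ⊔ Cfsg.oddCore (↥(C3 D) ⧸ N) := h ▸ Subgroup.mem_top γ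
    obtain ⟨c, hc, o, ho, hco⟩ := Subgroup.mem_sup_of_normal_right.1 hmem
    have hcz : c * z = z * c := Subgroup.mem_centralizer_singleton_iff.1 hc
    have hγi : γ⁻¹ = γ := inv_eq_of_mul_eq_one_right eγ2
    have haz : a * z ∈ Cfsg.oddCore (↥(C3 D) ⧸ N) := by
      have hzi : z⁻¹ = z := inv_eq_of_mul_eq_one_right hz2
      have e : a * z = c * (o * (z * o⁻¹ * z⁻¹)) * c⁻¹ := by
        rw [← eγ]
        nth_rewrite 2 [← hγi]
        rw [← hco, mul_inv_rev]
        have hcz' : c⁻¹ * z = z * c⁻¹ := (show Commute c⁻¹ z from (Commute.inv_left hcz)).eq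
        calc c * o * z * (o⁻¹ * c⁻¹) * z = c * o * z * o⁻¹ * (c⁻¹ * z) := by group
          _ = c * o * z * o⁻¹ * (z * c⁻¹) := by rw [hcz']
          _ = _ := by rw [hzi]; group
      rw [e]
      exact hOn.conj_mem _ (mul_mem ho (hOn.conj_mem _ (inv_mem ho) z)) c
    have hne : a * z ≠ 1 := by
      rw [← hψs, ← hψz, ← map_mul, ← map_one ψ]
      exact fun h => absurd (hψinj h) (by decide)
    have hsq : (a * z) ^ 2 = 1 := by
      rw [← hψs, ← hψz, ← map_mul, ← map_pow, ← map_one ψ]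
      exact congrArg ψ (by decide)
    have hd : orderOf (⟨a * z, haz⟩ : Cfsg.oddCore (↥(C3 D) ⧸ N)) = 2 := by
      rw [Subgroup.orderOf_mk]; exact orderOf_eq_prime (hp := ⟨Nat.prime_two⟩) hsq hne
    have hdv : 2 ∣ Nat.card (Cfsg.oddCore (↥(C3 D) ⧸ N)) := hd ▸ orderOf_dvd_natCard _
    exact (Nat.Prime.coprime_iff_not_dvd Nat.prime_two).1 (Cfsg.Agent.Core.coprime_card_pPrimeCore (p := 2) (G := ↥(C3 D) ⧸ N)).symm hdv
  · exact absurd (not_symm (Or.inl rfl) φ ψ hψinj hψr hψs eab eγ eγ2 eκ eκ2) not_false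
  · exact absurd (not_symm (Or.inr rfl) φ ψ hψinj hψr hψs eab eγ eγ2 eκ eκ2) not_false
  · exfalso
    have h7 : 7 ∣ Nat.card (↥(C3 D) ⧸ N) := by
      rw [Nat.card_congr φ.toEquiv]
      refine dvd_trans ?_ (_root_.orderOf_dvd_natCard (G := Matrix.SpecialLinearGroup (Fin 3) (ZMod 2)) sl7)
      rw [orderOf_eq_prime (hp := ⟨by norm_num⟩) sl7_pow sl7_ne]
    have h := (h7.trans (Subgroup.card_quotient_dvd_card N)).trans (Subgroup.card_subgroup_dvd_card (C3 D))
    rw [D.order] at h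
    norm_num at h
  · exact h

/-- The surjection to the alternating group with the element of order three as kernel. -/
theorem exists_hom (g : G) (hgg : g * g = 1) (hgz : g * D.z * g = e3 D) (hgy : g * y3 D * g = y3 D) :
    ∃ φ : ↥(C3 D) →* alternatingGroup (Fin 6), Function.Surjective φ ∧
      ∀ c, φ c = 1 ↔ (c : G) ∈ zpowers (y3 D) := by
  obtain ⟨e⟩ := quot_equiv D g hgg hgz hgy
  refine ⟨e.toMonoidHom.comp (QuotientGroup.mk' _), e.surjective.comp (QuotientGroup.mk'_surjective _), fun c => ?_⟩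
  rw [MonoidHom.comp_apply, MulEquiv.coe_toMonoidHom, EmbeddingLike.map_eq_one_iff]
  exact (QuotientGroup.eq_one_iff c).trans Subgroup.mem_subgroupOf

/-- A pair of involutions swapping the centre with the two generators has fifth power in the subgroup of order
three. -/
theorem pow_five_gen (g : G) (hgg : g * g = 1) (hgz : g * D.z * g = e3 D) (hgy : g * y3 D * g = y3 D)
    {u v : G} (huu : u * u = 1) (huz : u * D.z * u = e3 D) (huy : u * y3 D = y3 D * u)
    (hvv : v * v = 1) (hvz : v * D.z * v = e4 D) (hvy : v * y3 D = y3 D * v) :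
    (u * v) ^ 5 ∈ zpowers (y3 D) ∧ (u * v) ^ 15 = 1 ∧ (u * v * D.z) ^ 4 ∈ zpowers (y3 D) := by
  obtain ⟨φ, -, hφ⟩ := exists_hom D g hgg hgz hgy
  obtain ⟨hy3, hy1, hhh, hhy, hhe, hhz, h3y, h4y, hzy, h34, h33, h44⟩ := relsW D
  have memC : ∀ {c : G}, c * y3 D = y3 D * c → c ∈ C3 D := fun hc => Subgroup.mem_centralizer_singleton_iff.2 hc
  set cu : C3 D := ⟨u, memC huy⟩
  set cv : C3 D := ⟨v, memC hvy⟩
  set ca : C3 D := ⟨e3 D, memC h3y⟩
  set cb : C3 D := ⟨e4 D, memC h4y⟩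
  set cz : C3 D := ⟨D.z, memC hzy⟩
  have tr : ∀ {p q : C3 D}, (p : G) = q → φ p = φ q := fun h => congrArg φ (Subtype.ext h)
  have hz1 : φ cz ≠ 1 := by
    intro h
    obtain ⟨i, hi⟩ := Subgroup.mem_zpowers_iff.1 ((hφ cz).1 h)
    have h3' : D.z ^ 3 = 1 := by
      show (cz : G) ^ 3 = 1
      rw [← hi, ← zpow_natCast, ← zpow_mul, mul_comm, zpow_mul, zpow_natCast, hy3, one_zpow]
    rw [pow_succ, pow_two, D.zz, one_mul] at h3'
    exact D.z_ne h3'
  have h5 := CThree.five_key (a := φ ca) (b := φ cb) (g := φ cu) (k := φ cv) (z := φ cz)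
    (by rw [← map_mul, ← map_one φ]; exact tr h33) (by rw [← map_mul, ← map_one φ]; exact tr h44)
    (by rw [← map_mul, ← map_mul]; exact tr h34) hz1 (by rw [← map_mul, ← map_one φ]; exact tr D.zz)
    (by rw [← map_mul, ← map_one φ]; exact tr huu) (by rw [← map_mul, ← map_mul]; exact tr huz)
    (by rw [← map_mul, ← map_one φ]; exact tr hvv) (by rw [← map_mul, ← map_mul]; exact tr hvz)
  rw [← map_mul, ← map_pow, hφ, ← map_mul, ← map_pow, hφ] at h5
  obtain ⟨h5', h4'⟩ : (u * v) ^ 5 ∈ zpowers (y3 D) ∧ (u * v * D.z) ^ 4 ∈ zpowers (y3 D) := h5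
  refine ⟨h5', ?_, h4'⟩
  obtain ⟨i, hi⟩ := Subgroup.mem_zpowers_iff.1 h5'
  rw [show 15 = 5 * 3 from rfl, pow_mul, ← hi, ← zpow_natCast, ← zpow_mul, mul_comm, zpow_mul, zpow_natCast, hy3,
    one_zpow]

/-- The four words: the fifth powers lie in the subgroup of order three. -/
theorem pow_five (g : G) (hgg : g * g = 1) (hgz : g * D.z * g = e3 D) (hge : g * e3 D * g = D.z)
    (hgy : g * y3 D * g = y3 D) {u v : G} (hu : u = g ∨ u = g * D.z * e3 D)
    (hv : v = h3 D * g * h3 D ∨ v = h3 D * (g * D.z * e3 D) * h3 D) :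
    (u * v) ^ 5 ∈ zpowers (y3 D) ∧ (u * v) ^ 15 = 1 ∧ (u * v * D.z) ^ 4 ∈ zpowers (y3 D) := by
  obtain ⟨hy3, hy1, hhh, hhy, hhe, hhz, h3y, h4y, hzy, h34, h33, h44⟩ := relsW D
  have hz3 : Commute D.z (e3 D) := (D.comm we3).symm
  have props : ∀ {w : G}, (w = g ∨ w = g * D.z * e3 D) →
      w * w = 1 ∧ w * D.z * w = e3 D ∧ w * y3 D * w = y3 D := by
    rintro w (rfl | rfl)
    · exact ⟨hgg, hgz, hgy⟩
    · have hgzg : g * (D.z * e3 D) * g = D.z * e3 D := by
        calc g * (D.z * e3 D) * g = g * D.z * (g * g) * e3 D * g := by rw [hgg, mul_one, ← mul_assoc]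
          _ = (g * D.z * g) * (g * e3 D * g) := by group
          _ = D.z * e3 D := by rw [hgz, hge]; exact hz3.eq.symm
      have sq : D.z * e3 D * (D.z * e3 D) = 1 := by
        rw [mul_assoc, ← mul_assoc (e3 D), ← hz3.eq, mul_assoc D.z (e3 D), h33, mul_one, D.zz]
      refine ⟨?_, ?_, ?_⟩
      · calc g * D.z * e3 D * (g * D.z * e3 D) = g * (D.z * e3 D) * g * (D.z * e3 D) := by group
          _ = 1 := by rw [hgzg, sq]
      · calc g * D.z * e3 D * D.z * (g * D.z * e3 D) = g * D.z * (e3 D * D.z) * g * D.z * e3 D := by group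
          _ = g * (D.z * D.z) * e3 D * g * D.z * e3 D := by rw [← hz3.eq]; group
          _ = g * e3 D * g * D.z * e3 D := by rw [D.zz, mul_one]
          _ = e3 D := by rw [hge, D.zz, one_mul]
      · have hc : Commute (D.z * e3 D) (y3 D) := (show Commute D.z (y3 D) from hzy).mul_left h3y
        calc g * D.z * e3 D * y3 D * (g * D.z * e3 D) = g * (D.z * e3 D * y3 D) * g * (D.z * e3 D) := by group
          _ = g * (y3 D * (D.z * e3 D)) * g * (D.z * e3 D) := by rw [hc.eq]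
          _ = g * y3 D * (g * g) * (D.z * e3 D) * g * (D.z * e3 D) := by rw [hgg, mul_one]; group
          _ = (g * y3 D * g) * (g * (D.z * e3 D) * g * (D.z * e3 D)) := by group
          _ = y3 D := by rw [hgy, hgzg, sq, mul_one]
  have toComm : ∀ {w : G}, w * w = 1 → w * y3 D * w = y3 D → w * y3 D = y3 D * w := fun {w} h1 h2 => by
    calc w * y3 D = w * y3 D * (w * w) := by rw [h1, mul_one]
      _ = w * y3 D * w * w := by rw [← mul_assoc]
      _ = y3 D * w := by rw [h2]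
  obtain ⟨u1, u2, u3⟩ := props hu
  have conjh : ∀ {w : G}, (w = g ∨ w = g * D.z * e3 D) → h3 D * w * h3 D * (h3 D * w * h3 D) = 1 ∧
      h3 D * w * h3 D * D.z * (h3 D * w * h3 D) = e4 D ∧ h3 D * w * h3 D * y3 D = y3 D * (h3 D * w * h3 D) := by
    intro w hw
    obtain ⟨w1, w2, w3⟩ := props hw
    have hwi : w⁻¹ = w := inv_eq_of_mul_eq_one_right w1
    have w4 : w * (y3 D)⁻¹ * w = (y3 D)⁻¹ := by
      conv_rhs => rw [← w3, mul_inv_rev, mul_inv_rev, hwi, ← mul_assoc]
    have s1 : h3 D * w * h3 D * (h3 D * w * h3 D) = 1 := by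
      rw [show h3 D * w * h3 D * (h3 D * w * h3 D) = h3 D * w * (h3 D * h3 D) * w * h3 D by group, hhh,
        mul_one, mul_assoc (h3 D) w w, w1, mul_one, hhh]
    refine ⟨s1, ?_, toComm s1 ?_⟩
    · rw [show h3 D * w * h3 D * D.z * (h3 D * w * h3 D) = h3 D * (w * (h3 D * D.z * h3 D) * w) * h3 D by group,
        hhz, w2, hhe]
    · rw [show h3 D * w * h3 D * y3 D * (h3 D * w * h3 D) = h3 D * (w * (h3 D * y3 D * h3 D) * w) * h3 D by group,
        hhy, w4, ← hhy]
      calc h3 D * (h3 D * y3 D * h3 D) * h3 D = (h3 D * h3 D) * y3 D * (h3 D * h3 D) := by group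
        _ = y3 D := by rw [hhh, one_mul, mul_one]
  obtain ⟨v1, v2, v3⟩ : v * v = 1 ∧ v * D.z * v = e4 D ∧ v * y3 D = y3 D * v := by
    rcases hv with rfl | rfl
    · exact conjh (Or.inl rfl)
    · exact conjh (Or.inr rfl)
  exact pow_five_gen D g hgg hgz hgy u1 u2 (toComm u1 u3) v1 v2 v3

end

end CThree

open CThree

variable {G : Type*} [Group G]

/-- The word has fourth power in the subgroup of order three. -/
theorem oct_cases [Finite G] [IsSimpleGroup G] (D : JT G) {g : G} (hP : Para D.emb g) :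
    ∃ j < 3, octWord D.emb g ^ 4 = D.emb (yW ^ j) := by
  have ey : yW = wy := toT_injective (by decide +kernel)
  have eu : uW = we3 := rfl
  have eh : hW = wh := toT_injective (by decide +kernel)
  have hgz : g * D.z * g = e3 D := by
    have h := hP.gz
    rwa [D.emb_z, eu] at h
  have hge : g * e3 D * g = D.z := by
    have h := hP.gu
    rwa [D.emb_z, eu] at h
  have hgy : g * y3 D * g = y3 D := by
    have h := hP.gy
    rwa [ey] at h
  obtain ⟨hy3, -, -, -, -, -, -, -, -, -, -, -⟩ := relsW D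
  obtain ⟨-, -, h4⟩ := pow_five D g hP.sq hgz hge hgy (u := g) (v := h3 D * g * h3 D) (Or.inl rfl) (Or.inl rfl)
  have he : octWord D.emb g = g * (h3 D * g * h3 D) * D.z := by
    rw [octWord, eh, map_mul, D.emb_z]
    group
  rw [he]
  obtain ⟨i, hi⟩ := Subgroup.mem_zpowers_iff.1 h4
  refine ⟨(i % 3).toNat, by omega, ?_⟩
  rw [ey, map_pow, ← hi, ← zpow_natCast, Int.toNat_of_nonneg (Int.emod_nonneg _ (by norm_num))]
  conv_lhs => rw [← Int.mul_ediv_add_emod i 3, zpow_add, zpow_mul, zpow_ofNat, hy3, one_zpow, one_mul]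

end Cfsg.Agent.JThreeUniq
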