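import Cfsg.Agent.JThreeUniq.CModel
import Cfsg.Agent.DCoset.Cover

/-!
The relations make a rule table sound; the bound from a certificate.
-/

set_option autoImplicit false
set_option maxRecDepth 100000
set_option linter.all false

namespace Cfsg.Agent.JThreeUniq

open Cfsg.Agent.JThreeRecog Cfsg.Agent.HallJanko Equiv
open Cfsg.Agent.DCoset

/-- The tuple of a packed word. -/
def wTup : ℕ → ℕ → T
  | 0, _ => tone
  | n + 1, w => tmul (toT (lq (w % 256))) (wTup n (w / 256))

/-- The tuple of a packed word. -/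
def wordT (w : ℕ) : T := wTup (w % 65536) (w / 65536)

theorem wTup_eq : ∀ n w, toT (valW lq n w) = wTup n w
  | 0, _ => toT_one
  | n + 1, w => by rw [valW, toT_mul, wTup_eq n]; rfl

theorem eq_of_wordT {w : ℕ} {a : W} (h : wordT w = toT a) : val lq w = a :=
  toT_injective ((wTup_eq _ _).trans h)

/-- Pairs exchanged by the involution. -/
def rotPairs : List (W × W) :=
  [(zW, uW), (uW, zW), (yW, yW), (yW * yW, yW * yW), (pW, pW'), (pW * pW, pW' * pW'), (qW, qW'),
    (qW * qW * qW, qW' * qW' * qW')]

/-- What is asked of the rules. -/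
def ruleOK (M : Tab) (L : Rules) (r : ℕ) : Prop :=
  M.okWord (L.rU r) = true ∧ M.okWord (L.rV r) = true ∧ L.rD r = L.rS r ∧
    ((L.rS r = 0 ∧ L.rU r = L.rV r) ∨
      (L.rS r = 1 ∧ ∃ i : Fin 8, wordT (L.rU r) = toT (rotPairs.getD i (1, 1)).1 ∧
        wordT (L.rV r) = toT (rotPairs.getD i (1, 1)).2))

/-- The words of the two relators. -/
def relWords : List (List W) :=
  [[sW, sW], [hW, hW * zW, hW, hW * zW, hW, hW * zW, hW]]

/-- Their values. -/
def relVals (j : ℕ) : List W := [sW, yW ^ j * (hW * zW)]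

/-- What is asked of a relator. -/
def relOK (M : Tab) (L : Rules) (j r : ℕ) : Prop :=
  L.relHd r = 1 ∧ M.okWord (L.relTl r) = true ∧ wordT (L.relTl r) = toT ((relVals j).getD r 1) ∧
    L.relLen r = (relWords.getD r []).length ∧ ∀ m < L.relLen r,
      L.relT r m = 1 ∧ M.okWord (L.relW r m) = true ∧ wordT (L.relW r m) = toT ((relWords.getD r []).getD m 1)

/-- The shape of the rules. -/
structure Shape (M : Tab) (L : Rules) (j : ℕ) : Prop where
  two : L.nT = 2
  inv : L.invT 0 = 0 ∧ L.invT 1 = 1
  mul : ∀ a < 2, ∀ b < 2, L.mulT a b = 0 ∨ L.mulT a b = (a + b) % 2 + 1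
  nrel : L.nRel = 2
  rule : ∀ r < L.nRule, ruleOK M L r
  rel : ∀ r < 2, relOK M L j r

variable {H : Type*} [Group H] {Φ : W →* H} {g : H}

theorem Para.rot_pairs (h : Para Φ g) : ∀ i : Fin 8,
    g * Φ (rotPairs.getD i (1, 1)).2 = Φ (rotPairs.getD i (1, 1)).1 * g := by
  have key : ∀ {a b : W}, g * Φ a * g = Φ b → g * Φ b = Φ a * g := fun {a b} e => by
    calc g * Φ b = g * g * Φ a * g := by rw [← e]; group
      _ = Φ a * g := by rw [h.sq, one_mul]
  have mul : ∀ {a b c d : W}, g * Φ b = Φ a * g → g * Φ d = Φ c * g → g * Φ (b * d) = Φ (a * c) * g :=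
    fun {a b c d} e e' => by rw [map_mul, map_mul, ← mul_assoc, e, mul_assoc, e', mul_assoc]
  have hp := key h.gp
  have hq := key h.gq
  intro i
  fin_cases i <;> simp only [rotPairs, List.getD_cons_zero, List.getD_cons_succ]
  · exact key h.gz
  · exact key h.gu
  · exact key h.gy
  · exact mul (key h.gy) (key h.gy)
  · exact hp
  · exact mul hp hp
  · exact hq
  · exact mul (mul hq hq) hq

/-- The letter of a state. -/
def tFun (g : H) (τ : ℕ) : H := if τ = 1 then g else 1

theorem sound_of_rel {P : QModel W} {L : Rules} {j : ℕ} (hq : P.q = lq) (hs : Shape P.toTab L j)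
    (h : Rel Φ g j) : L.Sound (P.toModel Φ) (tFun g) := by
  have hel : ∀ {w : ℕ} {a : W}, wordT w = toT a → P.el w = a := fun {w a} e => by
    rw [QModel.el, hq]; exact eq_of_wordT e
  constructor
  · rfl
  · intro τ hτ
    rw [hs.two] at hτ ⊢
    interval_cases τ
    · exact ⟨by rw [hs.inv.1]; norm_num, by rw [hs.inv.1]; simp [tFun]⟩
    · exact ⟨by rw [hs.inv.2]; norm_num, by rw [hs.inv.2]; exact h.sq⟩
  · intro σ τ hσ hτ hne
    rw [hs.two] at hσ hτ ⊢
    have e := (hs.mul σ hσ τ hτ).resolve_left hne
    refine ⟨by omega, ?_⟩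
    rw [e]
    interval_cases σ <;> interval_cases τ <;> simp [tFun, h.sq]
  · intro r hr
    obtain ⟨hU, hV, hD, hcase⟩ := hs.rule r hr
    rw [hs.two, hD, P.el_val, P.el_val]
    rcases hcase with ⟨hS, hUV⟩ | ⟨hS, i, h1, h2⟩
    · rw [hS, hUV]
      exact ⟨by norm_num, by norm_num, hUV ▸ hU, hV, by simp [tFun]⟩
    · rw [hS, hel h1, hel h2]
      exact ⟨by norm_num, by norm_num, hU, hV, h.toPara.rot_pairs i⟩
  · intro r hr
    rw [hs.nrel] at hr
    obtain ⟨hhd, htl, hv, hlen, hm⟩ := hs.rel r hr
    rw [hs.two, hhd]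
    refine ⟨by norm_num, htl, fun m hm' => ⟨by rw [(hm m hm').1]; norm_num, (hm m hm').2.1⟩, ?_⟩
    rw [P.el_val, hel hv, show ((List.range (L.relLen r)).map fun m =>
        val (P.toModel Φ).lv (L.relW r m) * tFun g (L.relT r m)) =
        (List.range (L.relLen r)).map fun m => Φ ((relWords.getD r []).getD m 1) * g from
      List.map_congr_left fun m hm' => by
        obtain ⟨e1, -, e3⟩ := hm m (List.mem_range.1 hm')
        rw [e1, P.el_val, hel e3]
        rfl, hlen]
    show g * _ = _
    interval_cases r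
    · have e := h.rot
      have es : Φ sW * Φ sW = 1 := by
        rw [← map_mul, show sW * sW = 1 from toT_injective (by decide +kernel), map_one]
      calc g * _ = (g * Φ sW) ^ 3 * Φ sW := by
            simp only [relWords, List.getD_cons_zero, List.length_cons, List.length_nil,
              List.range_succ, List.range_zero, List.nil_append, List.cons_append, List.map_cons,
              List.map_nil, List.prod_cons, List.prod_nil, List.getD_cons_succ, mul_one,
              pow_succ, pow_zero, one_mul, mul_assoc, es]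
        _ = _ := by rw [e, one_mul]; rfl
    · have e := h.oct
      have hzz : Φ (hW * zW) * Φ (hW * zW) = 1 := by
        rw [← map_mul, show hW * zW * (hW * zW) = 1 from toT_injective (by decide +kernel), map_one]
      calc g * _ = octWord Φ g ^ 4 * Φ (hW * zW) := by
            simp only [octWord, relWords, List.getD_cons_zero, List.getD_cons_succ, List.length_cons,
              List.length_nil, List.range_succ, List.range_zero, List.nil_append, List.cons_append,
              List.map_cons, List.map_nil, List.prod_cons, List.prod_nil, mul_one, pow_succ, pow_zero,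
              one_mul, mul_assoc, hzz]
        _ = _ := by rw [e, ← map_mul]; rfl

universe v

/-- The certificate bounds the order of every group generated with the relations. -/
theorem bound_of_cert [Finite W] {P : QModel W} {L : Rules} {j : ℕ} {D : Steps} {K : Cover} {N : ℕ}
    (hq : P.q = lq) (hn : P.nL = 10) (hs : Shape P.toTab L j)
    (hok : ∀ s, s < D.len → Steps.check D L P.toTab s = true)
    (hsrc : ∀ i, 1 ≤ i → i < D.nNode → D.nodeSrc i < i)
    (hV : K.Valid D L P.toTab 1920) (hsum : ((List.range K.nLive).map K.idx).sum = N)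
    (H : Type v) [Group H] [Finite H] (Φ : W →* H) (g : H) (h : Rel Φ g j)
    (hg : Subgroup.closure (Set.range Φ ∪ {g}) = ⊤) : Nat.card H ≤ 1920 * N := by
  have hgen : Subgroup.closure {x | ∃ i, i < P.nL ∧ x = P.q i} = ⊤ := by rw [hn, hq]; exact lq_gen
  have hgenG : Subgroup.closure (Set.range Φ ∪ {x | ∃ τ, τ < L.nT ∧ x = tFun g τ}) = ⊤ := by
    rw [eq_top_iff, ← hg]
    refine Subgroup.closure_mono (Set.union_subset_union_right _ ?_)
    rintro x rfl
    exact ⟨1, by rw [hs.two]; norm_num, by simp [tFun]⟩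
  have hL := sound_of_rel hq hs h
  have hF := DCoset.Steps.holds (D := D) (Hs := Φ.range) hL (fun i _ => ⟨P.q i, rfl⟩) hsrc
    (by rw [hs.two]; norm_num) hok
  obtain ⟨-, hle⟩ := DCoset.Cover.index_le (C := K) (P := P) Φ (tFun g) card_W.le hgen hgenG hL hV hF
  rw [hsum] at hle
  have h1 : Nat.card Φ.range ≤ 1920 :=
    card_W ▸ Nat.card_le_card_of_surjective _ (MonoidHom.rangeRestrict_surjective Φ)
  rw [← Subgroup.card_mul_index Φ.range]
  exact Nat.mul_le_mul h1 hle

end Cfsg.Agent.JThreeUniq
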