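import Cfsg.Agent.JThreeUniq.Basic
import Cfsg.Agent.JankoThree.Simple
import Cfsg.Agent.JankoThree.Centralizer
import Cfsg.Agent.LargeExtra.Quotient
import Cfsg.Agent.LargeExtra.SingularSubgroup
import Cfsg.Agent.U62.Mat

/-!
Generation by the centraliser and one more involution, and the isomorphism with the model.
-/

set_option autoImplicit false
set_option maxRecDepth 100000

namespace Cfsg.Agent.JThreeUniq

open Cfsg.Agent.JThreeRecog Cfsg.Agent.HallJanko Equiv

universe v

/-! ### The model -/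

theorem M_comm : ∀ a b : M, a * b * a⁻¹ * b⁻¹ = 1 ∨ a * b * a⁻¹ * b⁻¹ = M.zM := by decide +kernel

theorem M_sq : ∀ a : M, a * a = 1 ∨ a * a = M.zM := by decide +kernel

theorem M_center : ∀ c : M, (∀ i, c * M.e i = M.e i * c) → c = 1 ∨ c = M.zM := by decide +kernel

theorem isExtraspecial_M : Cfsg.IsExtraspecial 2 M :=
  LargeExtra.extraspecial_of (IsPGroup.of_card (n := 5) (by rw [M.card]; norm_num)) (w := M.zM)
    (by decide) (by decide) (Subgroup.mem_center_iff.2 (by decide +kernel))
    (fun c hc => M_center c fun i => (Subgroup.mem_center_iff.1 hc (M.e i)).symm)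
    (fun a b => by simpa [commutatorElement_def] using M_comm a b) M_sq
    ⟨M.e 0, M.e 1, by decide⟩

/-- Only the centre commutes with the extraspecial part. -/
theorem W_cQ (w : W) (h : ∀ m : M, qel m * w = w * qel m) : w = 1 ∨ w = zW := by
  have hl : ∀ m : M, m * w.left = w.left * permAct w.right m := fun m => by
    simpa [qel] using congrArg SemidirectProduct.left (h m)
  have hi : ∀ i : Fin 5, (w.right : Perm (Fin 5)) i = i := by
    intro i
    have h1 := hl (M.e i)
    rw [permAct_apply, ← act_hom, act_e] at h1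
    obtain ⟨a, ha⟩ := M.e_conj w.left ((w.right : Perm (Fin 5)) i)
    rw [← h1, mul_inv_cancel_right] at ha
    exact (M.e_class i _ 0 a (by rw [M.zp_zero, one_mul, ha])).2.symm
  have hr : w.right = 1 := Subtype.ext (Equiv.ext fun i => by simpa using hi i)
  rcases M_center w.left (fun i => by simpa [hr] using (hl (M.e i)).symm) with e | e
  · exact Or.inl (SemidirectProduct.ext e hr)
  · exact Or.inr (SemidirectProduct.ext e hr)

/-! ### Generation -/

section Gen

variable {G : Type*} [Group G] [Finite G] (D : JT G) {g : G}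

/-- The centraliser and the involution generate. -/
theorem generated (hcard : Nat.card G = 50232960) (hP : Para D.emb g) :
    Subgroup.closure (Set.range D.emb ∪ {g}) = ⊤ := by
  haveI : Finite W := Nat.finite_of_card_ne_zero (by rw [card_W]; norm_num)
  haveI : Fintype W := Fintype.ofFinite W
  set H0 := Subgroup.closure (Set.range D.emb ∪ {g}) with hH0
  have hmem : ∀ w, D.emb w ∈ H0 := fun w => Subgroup.subset_closure (Or.inl ⟨w, rfl⟩)
  let Φ : W →* H0 := D.emb.codRestrict H0 hmem
  have hΦ : Function.Injective Φ := fun a b e => D.inj (congrArg Subtype.val e)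
  have hzW : ((Φ zW : H0) : G) = D.z := D.emb_z
  have hord : orderOf (Φ zW) = 2 := by
    rw [← Subgroup.orderOf_coe, hzW, D.ord]
  have hcomm : ∀ w, Φ w * Φ zW = Φ zW * Φ w := fun w => by rw [← map_mul, ← map_mul, zW_central]
  have honto : ∀ c : H0, c * Φ zW = Φ zW * c → ∃ w, Φ w = c := fun c hc => by
    obtain ⟨w, hw⟩ := D.onto c (by simpa [Φ, D.emb_z] using congrArg Subtype.val hc)
    exact ⟨w, Subtype.ext hw⟩
  by_cases hone : ∀ x y : H0, orderOf x = 2 → orderOf y = 2 → IsConj x y
  · haveI := Fintype.ofFinite H0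
    have h := JT.card_eq (⟨Φ zW, hord, Φ, hΦ, rfl, hcomm, honto, hone⟩ : JT H0)
    exact Subgroup.eq_top_of_card_eq _ (h.trans hcard.symm)
  exfalso
  push Not at hone
  obtain ⟨x, y, hx, hy, hxy⟩ := hone
  let ι : M →* H0 := Φ.comp SemidirectProduct.inl
  have hι : Function.Injective ι := hΦ.comp SemidirectProduct.inl_injective
  have hg0 : g ∈ H0 := Subgroup.subset_closure (Or.inr rfl)
  have h : HJ (Φ zW) ι.range :=
    { hz := hord
      le := by rintro _ ⟨m, rfl⟩; exact hcomm _
      normal := by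
        rintro c hc _ ⟨m, rfl⟩
        obtain ⟨w, rfl⟩ := honto c hc
        refine ⟨(w * SemidirectProduct.inl m * w⁻¹).left, ?_⟩
        show Φ (SemidirectProduct.inl _) = Φ w * Φ (SemidirectProduct.inl m) * (Φ w)⁻¹
        rw [← map_inv, ← map_mul, ← map_mul]
        exact congrArg Φ (SemidirectProduct.ext rfl (by simp))
      es := LargeExtra.extraspecial_congr (MonoidHom.ofInjective hι) isExtraspecial_M
      card := by rw [← Nat.card_congr (MonoidHom.ofInjective hι).toEquiv, M.card]
      zmem := ⟨M.zM, rfl⟩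
      cQ := fun c hc => by
        obtain ⟨w, rfl⟩ := honto c (hc (Φ zW) ⟨M.zM, rfl⟩).symm
        rcases W_cQ w (fun m => hΦ (by rw [map_mul, map_mul]; exact hc _ ⟨m, rfl⟩)) with rfl | rfl
        · exact Or.inl (map_one Φ)
        · exact Or.inr rfl
      cardC := by
        rw [← card_W]
        refine (Nat.card_congr (Equiv.ofBijective
          (fun w => (⟨Φ w, mem_C.2 (hcomm w)⟩ : Subgroup.centralizer ({Φ zW} : Set H0)))
          ⟨fun a b e => hΦ (congrArg Subtype.val e), fun c => ?_⟩)).symm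
        obtain ⟨w, hw⟩ := honto c (mem_C.1 c.2)
        exact ⟨w, Subtype.ext hw⟩
      nwc := by
        have hgi : g⁻¹ = g := inv_eq_of_mul_eq_one_right hP.sq
        have hu : (⟨g, hg0⟩ : H0) * Φ zW * (⟨g, hg0⟩ : H0)⁻¹ = Φ uW :=
          Subtype.ext (by simpa [Φ, hgi] using hP.gz)
        refine ⟨⟨g, hg0⟩, hu ▸ ⟨M.e 3, rfl⟩, fun e => ?_⟩
        rw [hu] at e
        exact (M.e_ne 3).2 (SemidirectProduct.inl_injective (hΦ e))
      hcl := ⟨x, y, hx, hy, hxy⟩ }
  have h0 := Subgroup.card_subgroup_dvd_card H0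
  rw [h.card_G, hcard] at h0
  norm_num at h0

/-- The power of the element of order three in the octagon relation vanishes. -/
theorem rel_zero (hcard : Nat.card G = 50232960) (hP : Para D.emb g)
    (hOct : ∃ j < 3, octWord D.emb g ^ 4 = D.emb (yW ^ j))
    (hKill : ∀ j, j = 1 ∨ j = 2 → Rel D.emb g j → Subgroup.closure (Set.range D.emb ∪ {g}) = ⊤ →
      Nat.card G ≤ 604800) : Rel D.emb g 0 := by
  obtain ⟨j, hj, hw⟩ := hOct
  have h : Rel D.emb g j := ⟨hP, hw⟩
  rcases Nat.eq_zero_or_pos j with rfl | hpos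
  · exact h
  · have := hKill j (by omega) h (generated D hcard hP)
    omega

end Gen

/-! ### Two groups with the relations are isomorphic -/

theorem Rel.prod {A B : Type*} [Group A] [Group B] {Φ : W →* A} {Ψ : W →* B} {a : A} {b : B}
    (ha : Rel Φ a 0) (hb : Rel Ψ b 0) : Rel (Φ.prod Ψ) (a, b) 0 where
  sq := Prod.ext ha.sq hb.sq
  gz := Prod.ext ha.gz hb.gz
  gu := Prod.ext ha.gu hb.gu
  gy := Prod.ext ha.gy hb.gy
  gp := Prod.ext ha.gp hb.gp
  gq := Prod.ext ha.gq hb.gq
  rot := Prod.ext ha.rot hb.rot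
  oct := Prod.ext ha.oct hb.oct

/-- A cover of degree at most three of two simple groups of the same large order. -/
theorem injective_of_cover {H A B : Type*} [Group H] [Finite H] [Group A] [Group B] [IsSimpleGroup B]
    (hle : Nat.card H ≤ 150698880) (p : H →* A) (q : H →* B) (hp : Function.Surjective p)
    (hq : Function.Surjective q) (hA : Nat.card A = 50232960) (hB : Nat.card B = 50232960)
    (hpq : ∀ x, p x = 1 → q x = 1 → x = 1) : Function.Injective p := by
  have hk : Nat.card p.ker ≤ 3 := by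
    have h := Subgroup.card_eq_card_quotient_mul_card_subgroup p.ker
    rw [Nat.card_congr (QuotientGroup.quotientKerEquivOfSurjective p hp).toEquiv, hA] at h
    omega
  have hn : (p.ker.map q).Normal := Subgroup.Normal.map inferInstance q hq
  rcases hn.eq_bot_or_eq_top with e | e
  · refine (injective_iff_map_eq_one p).2 fun x hx => hpq x hx ?_
    exact Subgroup.mem_bot.1 (e ▸ Subgroup.mem_map_of_mem q hx)
  · exfalso
    have h : Nat.card (p.ker.map q) ≤ Nat.card p.ker :=
      Nat.le_of_dvd Nat.card_pos (Subgroup.card_map_dvd _ q)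
    rw [e, Subgroup.card_top, hB] at h
    omega

/-- The isomorphism of two simple groups with the relations, given the bound on their common cover. -/
theorem iso_of_rel {G : Type v} {J : Type*} [Group G] [Group J] [Finite G] [Finite J] [IsSimpleGroup G]
    [IsSimpleGroup J] {Φ : W →* G} {Ψ : W →* J} {a : G} {b : J} (ha : Rel Φ a 0) (hb : Rel Ψ b 0)
    (hga : Subgroup.closure (Set.range Φ ∪ {a}) = ⊤) (hgb : Subgroup.closure (Set.range Ψ ∪ {b}) = ⊤)
    (hG : Nat.card G = 50232960) (hJ : Nat.card J = 50232960)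
    (hBound : ∀ H : Subgroup (G × J), ∀ (Θ : W →* H) (c : H), Rel Θ c 0 →
      Subgroup.closure (Set.range Θ ∪ {c}) = ⊤ → Nat.card H ≤ 150698880) :
    Nonempty (G ≃* J) := by
  set S : Set (G × J) := Set.range (Φ.prod Ψ) ∪ {(a, b)} with hS
  set H := Subgroup.closure S with hH
  let Θ : W →* H := (Φ.prod Ψ).codRestrict H fun w => Subgroup.subset_closure (Or.inl ⟨w, rfl⟩)
  let c : H := ⟨(a, b), Subgroup.subset_closure (Or.inr rfl)⟩
  have hR := ha.prod hb
  have hΘ : Rel Θ c 0 :=
    { sq := Subtype.ext hR.sq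
      gz := Subtype.ext hR.gz
      gu := Subtype.ext hR.gu
      gy := Subtype.ext hR.gy
      gp := Subtype.ext hR.gp
      gq := Subtype.ext hR.gq
      rot := Subtype.ext hR.rot
      oct := Subtype.ext hR.oct }
  have hpre : Set.range Θ ∪ {c} = (H.subtype) ⁻¹' S := by
    ext x
    constructor
    · rintro (⟨w, rfl⟩ | rfl)
      · exact Or.inl ⟨w, rfl⟩
      · exact Or.inr rfl
    · rintro (⟨w, hw⟩ | hx)
      · exact Or.inl ⟨w, Subtype.ext hw⟩
      · exact Or.inr (Subtype.ext hx)
  have htop : Subgroup.closure (Set.range Θ ∪ {c}) = ⊤ := hpre ▸ Subgroup.closure_closure_coe_preimage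
  have hle := hBound H Θ c hΘ htop
  let p₁ : H →* G := (MonoidHom.fst G J).comp H.subtype
  let p₂ : H →* J := (MonoidHom.snd G J).comp H.subtype
  have h1 : Function.Surjective p₁ := MonoidHom.range_eq_top.1 <| top_le_iff.1 <| hga ▸
    (Subgroup.closure_le _).2 (by
      rintro _ (⟨w, rfl⟩ | rfl)
      · exact ⟨Θ w, rfl⟩
      · exact ⟨c, rfl⟩)
  have h2 : Function.Surjective p₂ := MonoidHom.range_eq_top.1 <| top_le_iff.1 <| hgb ▸
    (Subgroup.closure_le _).2 (by
      rintro _ (⟨w, rfl⟩ | rfl)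
      · exact ⟨Θ w, rfl⟩
      · exact ⟨c, rfl⟩)
  have e1 := injective_of_cover hle p₁ p₂ h1 h2 hG hJ fun x hx hy => Subtype.ext (Prod.ext hx hy)
  have e2 := injective_of_cover hle p₂ p₁ h2 h1 hJ hG fun x hx hy => Subtype.ext (Prod.ext hy hx)
  exact ⟨(MulEquiv.ofBijective p₁ ⟨e1, h1⟩).symm.trans (MulEquiv.ofBijective p₂ ⟨e2, h2⟩)⟩

/-- The isomorphism with the model, given the letter, the octagon and the two enumeration bounds. -/
theorem isoJ3_of {G : Type v} [Group G] [Finite G] [IsSimpleGroup G] (D : JT G)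
    (hLetterG : ∃ g : G, Para D.emb g)
    (hLetterJ : ∀ {J : Type} [Group J] [Finite J] [IsSimpleGroup J] (D' : JT J), ∃ g : J, Para D'.emb g)
    (hOctG : ∀ {g : G}, Para D.emb g → ∃ j < 3, octWord D.emb g ^ 4 = D.emb (yW ^ j))
    (hOctJ : ∀ {J : Type} [Group J] [Finite J] [IsSimpleGroup J] (D' : JT J) {g : J}, Para D'.emb g →
      ∃ j < 3, octWord D'.emb g ^ 4 = D'.emb (yW ^ j))
    (hKillG : ∀ (H : Type v) [Group H] [Finite H] (Φ : W →* H) (g : H) (j : ℕ), j = 1 ∨ j = 2 →
      Rel Φ g j → Subgroup.closure (Set.range Φ ∪ {g}) = ⊤ → Nat.card H ≤ 604800)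
    (hKillJ : ∀ (H : Type) [Group H] [Finite H] (Φ : W →* H) (g : H) (j : ℕ), j = 1 ∨ j = 2 →
      Rel Φ g j → Subgroup.closure (Set.range Φ ∪ {g}) = ⊤ → Nat.card H ≤ 604800)
    (hBound : ∀ (H : Type v) [Group H] [Finite H] (Φ : W →* H) (g : H), Rel Φ g 0 →
      Subgroup.closure (Set.range Φ ∪ {g}) = ⊤ → Nat.card H ≤ 150698880) :
    Cfsg.Spor.IsoJ3 G := by
  classical
  haveI : Fact (Nat.Prime 2) := ⟨Nat.prime_two⟩
  let F := GaloisField 2 2
  haveI : Fintype F := Fintype.ofFinite F
  have hF : Fintype.card F = 4 := by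
    rw [← Nat.card_eq_fintype_card, GaloisField.card 2 2 two_ne_zero]; rfl
  obtain ⟨-, ω, hω⟩ := U62.exists_root hF
  have hr : JankoThree.Root F ω := JankoThree.Root.of_card hF hω
  haveI := JankoThree.isSimple_J3 hr
  refine ⟨F, inferInstance, inferInstance, ω, hF, hω, ?_⟩
  obtain ⟨t, ht, Q, hQn, hQ, hcard, -, -, ⟨e⟩⟩ := JankoThree.centralizer_shape hr
  obtain ⟨D', -⟩ := exists_JT (core ht hQ hcard e) (JankoThree.involutions_conj hr)
  obtain ⟨a, ha⟩ := hLetterG
  obtain ⟨b, hb⟩ := hLetterJ D'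
  exact iso_of_rel
    (rel_zero D D.order ha (hOctG ha) fun j hj h hc => hKillG G D.emb a j hj h hc)
    (rel_zero D' D'.order hb (hOctJ D' hb) fun j hj h hc => hKillJ _ D'.emb b j hj h hc)
    (generated D D.order ha) (generated D' D'.order hb) D.order D'.order
    fun H => hBound H

end Cfsg.Agent.JThreeUniq
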