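import Cfsg.Agent.JThreeUniq.Basic

/-!
An element of order two exchanging the central involution with a second involution of the extraspecial subgroup,
with its action on their common centraliser.
-/

set_option autoImplicit false
set_option maxRecDepth 100000
set_option linter.all false
set_option maxHeartbeats 4000000

namespace Cfsg.Agent.JThreeUniq

open HallJanko Equiv JThreeRecog

namespace Letter

/-- The evaluation of a word. -/
def evalW {Γ : Type*} [Monoid Γ] (a b c : Γ) (w : List (Fin 3)) : Γ :=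
  (w.map ![a, b, c]).prod

/-- The evaluation of a word on tuples. -/
def evalT (a b c : T) : List (Fin 3) → T
  | [] => tone
  | i :: w => tmul (![a, b, c] i) (evalT a b c w)

theorem toT_eval (a b c : W) : ∀ w : List (Fin 3), toT (evalW a b c w) = evalT (toT a) (toT b) (toT c) w
  | [] => toT_one
  | i :: w => by
    simp only [evalW, List.map_cons, List.prod_cons, evalT, toT_mul]
    rw [← evalW, toT_eval a b c w]
    fin_cases i <;> rfl

theorem eval_map {Γ Δ : Type*} [Monoid Γ] [Monoid Δ] (f : Γ →* Δ) (a b c : Γ) (w : List (Fin 3)) :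
    f (evalW a b c w) = evalW (f a) (f b) (f c) w := by
  rw [evalW, evalW, map_list_prod, List.map_map]
  exact congrArg List.prod (List.map_congr_left fun i _ => by fin_cases i <;> rfl)

/-- The tuples. -/
def tu : T := toT uW
/-- The tuples. -/
def ts : T := toT sW
/-- The tuples. -/
def ty : T := toT yW
/-- The tuples. -/
def tp : T := toT pW
/-- The tuples. -/
def tq : T := toT qW
/-- The tuples. -/
def tp' : T := toT pW'
/-- The tuples. -/
def tq' : T := toT qW'

theorem scan (P : T → Bool) (h : ((List.range 1920).all fun n => P (dec n)) = true) (w : W) : P (toT w) = true := by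
  rw [← (dec_eq w).2]
  exact List.all_eq_true.1 h _ (List.mem_range.2 (dec_eq w).1)

/-- Commuting tuples. -/
def comT (a b : T) : Bool := tmul a b == tmul b a

theorem comT_iff (a b : W) : comT (toT a) (toT b) = true ↔ a * b = b * a := by
  rw [comT, beq_iff_eq, ← toT_mul, ← toT_mul, toT_injective.eq_iff]

theorem toT_cube (a : W) : toT (a * a * a) = tmul (tmul (toT a) (toT a)) (toT a) := by rw [toT_mul, toT_mul]

theorem inv_classes : ((List.range 16).all fun c =>
    !(tmul (repT c) (repT c) == tone) || c == 0 || c == 15 || c == clsT tu ||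
      (List.range 1920).all (fun n => !(tmul (tmul (dec n) (dec n)) (dec n) == tone) || dec n == tone ||
        !(comT (dec n) (repT c)))) = true := by
  decide +kernel

/-- An involution centralised by an element of order three is conjugate to the second one. -/
theorem conj_to_u {w m : W} (hw : w * w = 1) (hw1 : w ≠ 1) (hwz : w ≠ zW) (hm : m * m * m = 1) (hm1 : m ≠ 1)
    (hmw : m * w = w * m) : ∃ x : W, x * w * x⁻¹ = uW := by
  haveI : Finite W := Nat.finite_of_card_ne_zero (by rw [card_W]; norm_num)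
  haveI := Fintype.ofFinite W
  obtain ⟨r, hr, hrc⟩ := exists_rep (cls_lt w)
  obtain ⟨g, rfl⟩ := isConj_iff.1 ((isConj_iff_cls r w).2 hrc)
  have hr2 : r * r = 1 := by
    have : g * (r * r) * g⁻¹ = 1 := by rw [← hw]; group
    exact conj_eq_one_iff.1 this
  have h := List.all_eq_true.1 inv_classes (cls (g * r * g⁻¹)) (List.mem_range.2 (cls_lt _))
  rw [← hr] at h
  simp only [Bool.or_eq_true, Bool.not_eq_true', ← Bool.not_eq_true, beq_iff_eq, List.all_eq_true, List.mem_range] at h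
  rcases h with (((h | h) | h) | h) | h
  · exact absurd (by rw [← toT_mul, hr2, toT_one]) h
  · exact absurd (cls_eq_zero h) hw1
  · exfalso
    refine hwz ?_
    have hz : cls zW = 15 := (congrArg clsT toT_zW).trans sq_classes.2.1
    obtain ⟨x, hx⟩ := isConj_iff.1 ((isConj_iff_cls zW (g * r * g⁻¹)).2 (hz.trans h.symm))
    rw [← hx, zW_central, mul_inv_cancel_right]
  · obtain ⟨x, hx⟩ := isConj_iff.1 ((isConj_iff_cls (g * r * g⁻¹) uW).2 h)
    exact ⟨x, hx⟩
  · exfalso
    have hn := h (pos (toT (g⁻¹ * m * g))) (dec_eq _).1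
    rw [dec_pos, ← toT_cube, ← toT_one, comT_iff] at hn
    simp only [toT_injective.eq_iff] at hn
    rcases hn with (hn | hn) | hn
    · refine hn ?_
      calc g⁻¹ * m * g * (g⁻¹ * m * g) * (g⁻¹ * m * g) = g⁻¹ * (m * m * m) * g := by group
        _ = 1 := by rw [hm]; group
    · refine hm1 ?_
      calc m = g * (g⁻¹ * m * g) * g⁻¹ := by group
        _ = 1 := by rw [hn]; group
    · refine hn ?_
      calc g⁻¹ * m * g * r = g⁻¹ * (m * (g * r * g⁻¹)) * g := by group
        _ = g⁻¹ * ((g * r * g⁻¹) * m) * g := by rw [hmw]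
        _ = r * (g⁻¹ * m * g) := by group

/-- Words for the conjugates of the fixed three-element. -/
def kWords : List (List (Fin 3)) :=
  [[], [1], [2], [0, 1], [0, 2], [1, 2], [2, 1], [0, 0, 1], [0, 0, 2], [0, 1, 2], [0, 2, 1], [1, 2, 1], [2, 1, 2],
    [0, 0, 1, 2], [0, 0, 2, 1], [0, 1, 2, 1]]

/-- The scanned property. -/
def threeP (t : T) : Bool :=
    !(comT t tu) || !(tmul (tmul t t) t == tone) || t == tone ||
      kWords.any fun k => tmul t (evalT ty tp tq k) == tmul (evalT ty tp tq k) ty ||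
        tmul t (evalT ty tp tq k) == tmul (evalT ty tp tq k) (tmul ty ty)

theorem three_scan : ((List.range 1920).all fun n => threeP (dec n)) = true := by
  decide +kernel

/-- The scanned property. -/
def invertP (t : T) : Bool :=
    !(comT t tu) || !(tmul t ty == tmul (tmul ty ty) t)

theorem no_invert : ((List.range 1920).all fun n => invertP (dec n)) = true := by
  decide +kernel

/-- The positions of the elements of order three. -/
def isP (t : T) : Bool := comT t tu && tmul (tmul t t) t == tone && !(t == tone)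

/-- The square roots of the second involution. -/
def isQ (t : T) : Bool := comT t tu && tmul t t == tu

/-- The relations. -/
def relT (a b : T) : Bool :=
  evalT ty a b [0, 2, 1, 0, 2, 1] == tmul tu tz && evalT ty a b [0, 2, 0, 2, 0, 2] == tone &&
    evalT ty a b [2, 0, 1, 2, 1, 1] == ty

/-- A pair is a conjugate of the standard pair. -/
def stdT (a b : T) : Bool :=
  [[], [0], [0, 0]].any fun k => tmul (evalT ty tp tq k) a == tmul tp' (evalT ty tp tq k) &&
    tmul (evalT ty tp tq k) b == tmul tq' (evalT ty tp tq k)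

theorem pair_scan : (((List.range 1920).filter fun n => isP (dec n)).all fun n =>
    ((List.range 1920).filter fun m => isQ (dec m)).all fun m => !(relT (dec n) (dec m)) || stdT (dec n) (dec m)) = true := by
  decide +kernel

/-- The scanned property. -/
def fourP (t : T) : Bool :=
    !(comT t tu && comT t ty && comT t tp && comT t tq) ||
      t == tone || t == tz || t == tu || t == tmul tz tu

theorem four_scan : ((List.range 1920).all fun n => fourP (dec n)) = true := by
  decide +kernel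

/-- An element commuting with the generators of the common centraliser. -/
theorem four_cases {x : W} (hu : x * uW = uW * x) (hy : x * yW = yW * x) (hp : x * pW = pW * x)
    (hq : x * qW = qW * x) : x = 1 ∨ x = zW ∨ x = uW ∨ x = zW * uW := by
  have h := scan fourP four_scan x
  have e1 : comT (toT x) tu = true := (comT_iff x uW).2 hu
  have e2 : comT (toT x) ty = true := (comT_iff x yW).2 hy
  have e3 : comT (toT x) tp = true := (comT_iff x pW).2 hp
  have e4 : comT (toT x) tq = true := (comT_iff x qW).2 hq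
  simp only [fourP, e1, e2, e3, e4, Bool.and_self, Bool.not_true, Bool.false_or, Bool.or_eq_true, beq_iff_eq] at h
  rw [← toT_one, ← toT_zW, tu, ← toT_mul] at h
  simp only [toT_injective.eq_iff] at h
  tauto

theorem word_p' : pW' = evalW yW pW qW [0, 1, 2, 1, 2] := toT_injective (by rw [toT_eval]; decide +kernel)
theorem word_q' : qW' = evalW yW pW qW [0, 1, 1, 2, 1, 1] := toT_injective (by rw [toT_eval]; decide +kernel)
theorem back_p : evalW yW pW' qW' [0, 1, 2, 1, 2] = pW := toT_injective (by rw [toT_eval]; decide +kernel)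
theorem back_q : evalW yW pW' qW' [0, 1, 1, 2, 1, 1] = qW := toT_injective (by rw [toT_eval]; decide +kernel)

theorem eq_of_toT {a b : W} (h : toT a = toT b) : a = b := toT_injective h

theorem facts_u : uW * uW = 1 ∧ sW * sW = 1 ∧ yW * uW = uW * yW ∧ pW * uW = uW * pW ∧ qW * uW = uW * qW ∧
    sW * yW = yW * sW ∧ sW * uW = zW * uW * sW ∧ qW * qW = zW ∧ yW * yW * yW = 1 ∧ pW * pW * pW = 1 ∧
    yW ≠ 1 ∧ pW ≠ 1 ∧ uW ≠ 1 ∧ uW ≠ zW ∧ zW * uW ≠ 1 := by
  refine ⟨?_, ?_, ?_, ?_, ?_, ?_, ?_, ?_, ?_, ?_, ?_, ?_, ?_, ?_, ?_⟩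
  all_goals first
    | (apply eq_of_toT; (try simp only [toT_mul, toT_one]); decide +kernel)
    | (intro h; replace h := congrArg toT h; revert h; (try simp only [toT_mul, toT_one]); decide +kernel)

theorem zW_sq : zW * zW = 1 := eq_of_toT (by rw [toT_mul, toT_one]; decide +kernel)

theorem conj_step {A B : Type*} [Group A] [Group B] (f : A →* B) (S : B) {a b c d : A}
    (ha : S * f a * S⁻¹ = f b) (hc : S * f c * S⁻¹ = f d) : S * f (c * a * c⁻¹) * S⁻¹ = f (d * b * d⁻¹) := by
  rw [map_mul, map_mul, map_inv, map_mul, map_mul, map_inv, ← ha, ← hc]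
  group

theorem conj_conj_mul {A : Type*} [Group A] (d k b : A) : d * (k * b * k⁻¹) * d⁻¹ = d * k * b * (d * k)⁻¹ := by
  group

theorem conj_double {A : Type*} [Group A] (k b : A) : k * (b * b) * k⁻¹ * (k * (b * b) * k⁻¹) =
    k * (b * b * (b * b)) * k⁻¹ := by
  group

theorem conj_three {B : Type*} [Group B] (S a : B) : S * S * S * a * (S * S * S)⁻¹ = S * (S * (S * a * S⁻¹) * S⁻¹) * S⁻¹ := by
  group

end Letter

attribute [local irreducible] uW sW yW pW qW pW' qW' zW

open Letter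

variable {G : Type*} [Group G] [Finite G]

/-- A letter exchanging the two involutions, with its action on their common centraliser. -/
theorem exists_letter (D : JT G) : ∃ g : G, g * g = 1 ∧ g * D.emb zW * g = D.emb uW ∧
    g * D.emb uW * g = D.emb zW ∧ g * D.emb yW * g = D.emb yW ∧ g * D.emb pW * g = D.emb pW' ∧
    g * D.emb qW * g = D.emb qW' ∧ (g * D.emb sW) ^ 3 = 1 := by
  classical
  haveI : Finite W := Nat.finite_of_card_ne_zero (by rw [card_W]; norm_num)
  haveI := Fintype.ofFinite W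
  obtain ⟨uu, ss, yu, pu, qu, sy, su, qq, y3, p3, y1, p1, u1, uz, zu1⟩ := facts_u
  have hu2 : D.emb uW * D.emb uW = 1 := by rw [← map_mul, uu, map_one]
  have hu1 : D.emb uW ≠ 1 := fun e => u1 (D.inj (e.trans (map_one D.emb).symm))
  obtain ⟨g1, hg1⟩ := isConj_iff.1 (D.isConj_z hu2 hu1)
  rw [← D.emb_z] at hg1
  -- conjugation
  have cmul : ∀ g a b : G, g * (a * b) * g⁻¹ = g * a * g⁻¹ * (g * b * g⁻¹) := fun g a b => by group
  have ccom : ∀ g a b : G, a * b = b * a → g * a * g⁻¹ * (g * b * g⁻¹) = g * b * g⁻¹ * (g * a * g⁻¹) :=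
    fun g a b h => by rw [← cmul, h, cmul]
  have hzc : ∀ w, D.emb w * D.emb zW = D.emb zW * D.emb w := fun w => by rw [← map_mul, ← map_mul, zW_central]
  -- a second conjugate
  obtain ⟨w', hw'⟩ := D.onto (g1⁻¹ * D.emb zW * g1) (by
    have h := ccom g1⁻¹ _ _ (hzc uW)
    rw [inv_inv] at h
    have e : g1⁻¹ * D.emb uW * g1 = D.emb zW := by rw [← hg1]; group
    rw [e] at h
    rw [← D.emb_z]
    exact h.symm)
  have hw'e : g1 * D.emb w' * g1⁻¹ = D.emb zW := by rw [hw']; group
  have hw'2 : w' * w' = 1 := D.inj (by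
    have h : D.emb zW * D.emb zW = 1 := by rw [← map_mul, zW_sq, map_one]
    rw [map_mul, map_one, hw', show g1⁻¹ * D.emb zW * g1 * (g1⁻¹ * D.emb zW * g1) =
      g1⁻¹ * (D.emb zW * D.emb zW) * g1 by group, h]
    group)
  have hw'1 : w' ≠ 1 := fun e => by
    rw [e, map_one] at hw'e
    exact D.z_ne (by rw [← D.emb_z, ← hw'e]; group)
  have hw'z : w' ≠ zW := fun e => by
    rw [e, hg1] at hw'e
    exact uz (D.inj hw'e)
  obtain ⟨m, hm⟩ := D.onto (g1⁻¹ * D.emb yW * g1) (by
    have h := ccom g1⁻¹ _ _ (show D.emb yW * D.emb uW = D.emb uW * D.emb yW by rw [← map_mul, ← map_mul, yu])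
    rw [inv_inv] at h
    have e : g1⁻¹ * D.emb uW * g1 = D.z := by rw [← hg1, D.emb_z]; group
    rw [e] at h
    exact h)
  obtain ⟨x, hx⟩ := conj_to_u hw'2 hw'1 hw'z (m := m)
    (D.inj (by
      rw [map_one, map_mul, map_mul, hm, show g1⁻¹ * D.emb yW * g1 * (g1⁻¹ * D.emb yW * g1) * (g1⁻¹ * D.emb yW * g1) =
        g1⁻¹ * (D.emb yW * D.emb yW * D.emb yW) * g1 by group, ← map_mul, ← map_mul, y3, map_one]
      group))
    (fun e => by
      rw [e, map_one] at hm
      refine y1 (D.inj ?_)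
      rw [map_one, show D.emb yW = g1 * (g1⁻¹ * D.emb yW * g1) * g1⁻¹ by group, ← hm]
      group)
    (D.inj (by
      rw [map_mul, map_mul, hm, hw']
      have h := ccom g1⁻¹ _ _ (hzc yW)
      rw [inv_inv] at h
      exact h))
  obtain ⟨g0, hz0, hu0⟩ : ∃ g : G, g * D.emb zW * g⁻¹ = D.emb uW ∧ g * D.emb uW * g⁻¹ = D.emb zW := by
    refine ⟨g1 * D.emb x⁻¹, ?_, ?_⟩
    · rw [show g1 * D.emb x⁻¹ * D.emb zW * (g1 * D.emb x⁻¹)⁻¹ = g1 * (D.emb x⁻¹ * D.emb zW * (D.emb x⁻¹)⁻¹) * g1⁻¹ by group, hzc,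
        mul_inv_cancel_right, hg1]
    · rw [show g1 * D.emb x⁻¹ * D.emb uW * (g1 * D.emb x⁻¹)⁻¹ = g1 * (D.emb x⁻¹ * D.emb uW * (D.emb x⁻¹)⁻¹) * g1⁻¹ by group, ← map_inv,
        inv_inv, ← map_mul, ← map_mul, show x⁻¹ * uW * x = w' by rw [← hx]; group, hw'e]
  -- the common centraliser is invariant
  have hU : ∀ {g : G}, g * D.emb zW * g⁻¹ = D.emb uW → g * D.emb uW * g⁻¹ = D.emb zW → ∀ w, w * uW = uW * w →
      ∃ v, v * uW = uW * v ∧ D.emb v = g * D.emb w * g⁻¹ := by
    intro g hgz hgu w hw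
    obtain ⟨v, hv⟩ := D.onto (g * D.emb w * g⁻¹) (by
      rw [← D.emb_z, ← hgu]
      exact ccom g _ _ (by rw [← map_mul, ← map_mul, hw]))
    refine ⟨v, D.inj ?_, hv⟩
    rw [map_mul, map_mul, hv, ← hgz]
    exact ccom g _ _ (hzc w)
  have hkU : ∀ k : List (Fin 3), evalW yW pW qW k * uW = uW * evalW yW pW qW k := by
    intro k
    induction k with
    | nil => simp [evalW]
    | cons j k ih =>
      have hj : Commute (![yW, pW, qW] j) uW := by fin_cases j; exacts [yu, pu, qu]
      simp only [evalW, List.map_cons, List.prod_cons] at ih ⊢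
      exact (hj.mul_left ih).eq
  -- adjusting by the common centraliser
  have adjust : ∀ {g : G}, g * D.emb zW * g⁻¹ = D.emb uW → g * D.emb uW * g⁻¹ = D.emb zW → ∀ k, k * uW = uW * k →
      (D.emb k * g) * D.emb zW * (D.emb k * g)⁻¹ = D.emb uW ∧ (D.emb k * g) * D.emb uW * (D.emb k * g)⁻¹ = D.emb zW := by
    intro g hgz hgu k hk
    constructor
    · rw [show D.emb k * g * D.emb zW * (D.emb k * g)⁻¹ = D.emb k * (g * D.emb zW * g⁻¹) * (D.emb k)⁻¹ by group, hgz, ← map_mul, hk, map_mul,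
        mul_inv_cancel_right]
    · rw [show D.emb k * g * D.emb uW * (D.emb k * g)⁻¹ = D.emb k * (g * D.emb uW * g⁻¹) * (D.emb k)⁻¹ by group, hgu, hzc, mul_inv_cancel_right]
  -- fixing the three-element
  obtain ⟨g2, hz2, hu2', hy2⟩ : ∃ g : G, g * D.emb zW * g⁻¹ = D.emb uW ∧ g * D.emb uW * g⁻¹ = D.emb zW ∧
      g * D.emb yW * g⁻¹ = D.emb yW := by
    obtain ⟨Y, hYu, hY⟩ := hU hz0 hu0 yW yu
    have hY3 : Y * Y * Y = 1 := D.inj (by
      rw [map_one, map_mul, map_mul, hY, ← cmul, ← cmul, ← map_mul, ← map_mul, y3, map_one]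
      group)
    have hY1 : Y ≠ 1 := fun e => y1 (D.inj (by
      rw [e, map_one] at hY
      rw [map_one]
      exact conj_eq_one_iff.1 hY.symm))
    have h := scan threeP three_scan Y
    have e1 : comT (toT Y) tu = true := (comT_iff Y uW).2 hYu
    simp only [threeP, e1, Bool.not_true, Bool.false_or, Bool.or_eq_true, Bool.not_eq_true', beq_iff_eq, beq_eq_false_iff_ne,
      List.any_eq_true] at h
    rw [← toT_cube, ← toT_one, ty, tp, tq, ← toT_mul] at h
    simp only [← toT_eval, ← toT_mul, toT_injective.eq_iff, ne_eq] at h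
    rcases h with (h | h) | ⟨k, -, h | h⟩
    · exact absurd hY3 h
    · exact absurd h hY1
    · have hK := hkU k
      set K := evalW yW pW qW k
      obtain ⟨a, b⟩ := adjust hz0 hu0 K⁻¹ (Commute.inv_left hK).eq
      refine ⟨_, a, b, ?_⟩
      rw [show D.emb K⁻¹ * g0 * D.emb yW * (D.emb K⁻¹ * g0)⁻¹ = D.emb K⁻¹ * (g0 * D.emb yW * g0⁻¹) * (D.emb K⁻¹)⁻¹ by group, ← hY,
        ← map_mul, ← map_inv, inv_inv, ← map_mul, mul_assoc, h, inv_mul_cancel_left]
    · exfalso
      have hK := hkU k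
      set K := evalW yW pW qW k
      have hYK : Y = K * (yW * yW) * K⁻¹ := eq_mul_inv_iff_mul_eq.2 h
      set S := g0 * D.emb sW with hS
      have hSz : S * D.emb zW * S⁻¹ = D.emb uW := by
        rw [hS, show g0 * D.emb sW * D.emb zW * (g0 * D.emb sW)⁻¹ = g0 * (D.emb sW * D.emb zW * (D.emb sW)⁻¹) * g0⁻¹ by group, hzc,
          mul_inv_cancel_right, hz0]
      have hSu : S * D.emb uW * S⁻¹ = D.emb (zW * uW) := by
        rw [hS, show g0 * D.emb sW * D.emb uW * (g0 * D.emb sW)⁻¹ = g0 * (D.emb sW * D.emb uW * (D.emb sW)⁻¹) * g0⁻¹ by group, ← map_mul, su,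
          map_mul, mul_inv_cancel_right, map_mul, cmul, hz0, hu0, ← hzc]
      have hSzu : S * D.emb (zW * uW) * S⁻¹ = D.emb zW := by
        rw [map_mul, cmul, hSz, hSu, map_mul, ← mul_assoc, hzc uW, mul_assoc, hu2, mul_one]
      have hS1 : S * D.emb yW * S⁻¹ = D.emb Y := by
        rw [hS, show g0 * D.emb sW * D.emb yW * (g0 * D.emb sW)⁻¹ = g0 * (D.emb sW * D.emb yW * (D.emb sW)⁻¹) * g0⁻¹ by group, ← map_mul, sy,
          map_mul, mul_inv_cancel_right, hY]
      obtain ⟨c, hc⟩ : ∃ c, c = K * K := ⟨_, rfl⟩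
      -- conjugating the three-element three times
      have hSU : ∀ w, w * uW = uW * w → ∃ v, v * uW = uW * v ∧ D.emb v = S * D.emb w * S⁻¹ := by
        intro w hw
        have hw2 : w * (zW * uW) = zW * uW * w := by rw [← mul_assoc, zW_central, mul_assoc, hw, mul_assoc]
        obtain ⟨v, hv⟩ := D.onto (S * D.emb w * S⁻¹) (by
          rw [← D.emb_z, ← hSzu]
          exact ccom S _ _ (by rw [← map_mul, ← map_mul, hw2]))
        refine ⟨v, D.inj ?_, hv⟩
        rw [map_mul, map_mul, hv, ← hSz]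
        exact ccom S _ _ (hzc w)
      have hy4 : yW * yW * (yW * yW) = yW := by
        calc yW * yW * (yW * yW) = yW * yW * yW * yW := by group
          _ = yW := by rw [y3, one_mul]
      obtain ⟨K1, hK1u, hK1⟩ := hSU K hK
      rw [hYK] at hS1
      have hy2' : S * D.emb (yW * yW) * S⁻¹ = D.emb (K * yW * K⁻¹) := by
        rw [map_mul, cmul, hS1, ← map_mul, conj_double, hy4]
      have hS2 : S * (S * D.emb yW * S⁻¹) * S⁻¹ = D.emb (K1 * K * yW * (K1 * K)⁻¹) := by
        rw [hS1, conj_step D.emb S hy2' hK1.symm, conj_conj_mul]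
      obtain ⟨K2, hK2u, hK2⟩ := hSU (K1 * K) (Commute.mul_left hK1u hK).eq
      have hS3 : S * S * S * D.emb yW * (S * S * S)⁻¹ = D.emb (K2 * K * (yW * yW) * (K2 * K)⁻¹) := by
        rw [conj_three, hS2, conj_step D.emb S hS1 hK2.symm, conj_conj_mul]
      have hz3 : S * S * S * D.emb zW * (S * S * S)⁻¹ = D.emb zW := by
        rw [show S * S * S * D.emb zW * (S * S * S)⁻¹ = S * (S * (S * D.emb zW * S⁻¹) * S⁻¹) * S⁻¹ by group, hSz, hSu, hSzu]
      have hu3 : S * S * S * D.emb uW * (S * S * S)⁻¹ = D.emb uW := by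
        rw [show S * S * S * D.emb uW * (S * S * S)⁻¹ = S * (S * (S * D.emb uW * S⁻¹) * S⁻¹) * S⁻¹ by group, hSu, hSzu, hSz]
      obtain ⟨X, hX⟩ := D.onto (S * S * S) (by rw [← D.emb_z]; exact mul_inv_eq_iff_eq_mul.1 hz3)
      rw [← hX] at hu3 hS3
      have hXu : X * uW = uW * X := D.inj (by rw [map_mul, map_mul]; exact mul_inv_eq_iff_eq_mul.1 hu3)
      set c' := (K2 * K)⁻¹ * X with hc'
      have hc'u : c' * uW = uW * c' := ((Commute.mul_left hK2u hK).inv_left.mul_left hXu).eq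
      have hinv : c' * yW = yW * yW * c' := by
        have e : X * yW * X⁻¹ = K2 * K * (yW * yW) * (K2 * K)⁻¹ :=
          D.inj (by rw [map_mul, map_mul, map_inv]; exact hS3)
        calc c' * yW = (K2 * K)⁻¹ * (X * yW * X⁻¹) * X := by rw [hc']; group
          _ = yW * yW * c' := by rw [e, hc']; group
      have h' := scan invertP no_invert c'
      have e1 : comT (toT c') tu = true := (comT_iff c' uW).2 hc'u
      have e2 : tmul (toT c') ty = tmul (tmul ty ty) (toT c') := by
        rw [ty, ← toT_mul, ← toT_mul, ← toT_mul, hinv]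
      simp [invertP, e1, e2] at h'
  -- the images of the other generators
  obtain ⟨g3, hz3, hu3, hy3, hp3, hq3⟩ : ∃ g : G, g * D.emb zW * g⁻¹ = D.emb uW ∧ g * D.emb uW * g⁻¹ = D.emb zW ∧
      g * D.emb yW * g⁻¹ = D.emb yW ∧ g * D.emb pW * g⁻¹ = D.emb pW' ∧ g * D.emb qW * g⁻¹ = D.emb qW' := by
    obtain ⟨P, hPu, hP⟩ := hU hz2 hu2' pW pu
    obtain ⟨Q, hQu, hQ⟩ := hU hz2 hu2' qW qu
    let c : W →* G := (MulAut.conj g2).toMonoidHom.comp D.emb
    have cv : ∀ w, c w = g2 * D.emb w * g2⁻¹ := fun w => rfl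
    have crel : ∀ k : List (Fin 3), c (evalW yW pW qW k) = D.emb (evalW yW P Q k) := fun k => by
      rw [eval_map, eval_map D.emb, cv, cv, cv, hy2, ← hP, ← hQ]
    have hP3 : P * P * P = 1 := D.inj (by
      rw [map_mul, map_mul, hP, ← cv, ← map_mul, ← map_mul, p3, map_one, map_one])
    have hP1 : P ≠ 1 := fun e => p1 (D.inj (by
      rw [e, map_one] at hP
      rw [map_one]
      exact conj_eq_one_iff.1 hP.symm))
    have hQ2 : Q * Q = uW := D.inj (by rw [map_mul, hQ, ← cv, ← map_mul, qq, cv, hz2])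
    have r1 : evalW yW P Q [0, 2, 1, 0, 2, 1] = uW * zW := D.inj (by
      rw [← crel, show evalW yW pW qW [0, 2, 1, 0, 2, 1] = zW * uW from
        eq_of_toT (by rw [toT_eval, toT_mul]; decide +kernel), map_mul, cv, cv, hz2, hu2', map_mul])
    have r2 : evalW yW P Q [0, 2, 0, 2, 0, 2] = 1 := D.inj (by
      rw [← crel, show evalW yW pW qW [0, 2, 0, 2, 0, 2] = 1 from
        eq_of_toT (by rw [toT_eval, toT_one]; decide +kernel), map_one, map_one])
    have r3 : evalW yW P Q [2, 0, 1, 2, 1, 1] = yW := D.inj (by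
      rw [← crel, show evalW yW pW qW [2, 0, 1, 2, 1, 1] = yW from
        eq_of_toT (by rw [toT_eval]; decide +kernel), cv, hy2])
    have hPT : isP (toT P) = true := by
      simp only [isP, Bool.and_eq_true, Bool.not_eq_true', beq_iff_eq, beq_eq_false_iff_ne]
      exact ⟨⟨(comT_iff P uW).2 hPu, by rw [← toT_cube, hP3, toT_one]⟩,
        fun e => hP1 (eq_of_toT (e.trans toT_one.symm))⟩
    have hQT : isQ (toT Q) = true := by
      simp only [isQ, Bool.and_eq_true, beq_iff_eq]
      exact ⟨(comT_iff Q uW).2 hQu, by rw [← toT_mul, hQ2, tu]⟩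
    have hrel : relT (toT P) (toT Q) = true := by
      simp only [relT, Bool.and_eq_true, beq_iff_eq]
      refine ⟨⟨?_, ?_⟩, ?_⟩
      · rw [ty, ← toT_eval, r1, toT_mul, tu, toT_zW]
      · rw [ty, ← toT_eval, r2, toT_one]
      · rw [ty, ← toT_eval, r3]
    have hnP : pos (toT P) ∈ (List.range 1920).filter fun n => isP (dec n) :=
      List.mem_filter.2 ⟨List.mem_range.2 (dec_eq P).1, by rw [dec_pos]; exact hPT⟩
    have hnQ : pos (toT Q) ∈ (List.range 1920).filter fun n => isQ (dec n) :=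
      List.mem_filter.2 ⟨List.mem_range.2 (dec_eq Q).1, by rw [dec_pos]; exact hQT⟩
    have h := List.all_eq_true.1 (List.all_eq_true.1 pair_scan _ hnP) _ hnQ
    rw [dec_pos, dec_pos, hrel] at h
    simp only [stdT, Bool.not_true, Bool.false_or, List.any_eq_true, Bool.and_eq_true, beq_iff_eq, ty, tp, tq, tp',
      tq', ← toT_eval, ← toT_mul, toT_injective.eq_iff] at h
    obtain ⟨k, hk, hkP, hkQ⟩ := h
    have hKy : evalW yW pW qW k * yW = yW * evalW yW pW qW k := by
      simp only [List.mem_cons, List.not_mem_nil, or_false] at hk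
      rcases hk with rfl | rfl | rfl <;> simp [evalW, mul_assoc]
    set K := evalW yW pW qW k
    obtain ⟨a, b⟩ := adjust hz2 hu2' K (hkU k)
    have e : ∀ w, D.emb K * g2 * D.emb w * (D.emb K * g2)⁻¹ = D.emb K * (g2 * D.emb w * g2⁻¹) * (D.emb K)⁻¹ := fun w => by group
    refine ⟨_, a, b, ?_, ?_, ?_⟩
    · rw [e, hy2, ← map_mul, hKy, map_mul, mul_inv_cancel_right]
    · rw [e, ← hP, ← map_mul, hkP, map_mul, mul_inv_cancel_right]
    · rw [e, ← hQ, ← map_mul, hkQ, map_mul, mul_inv_cancel_right]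
  -- making it an involution
  obtain ⟨g, gg, hz, hu, hy, hp, hq⟩ : ∃ g : G, g * g = 1 ∧ g * D.emb zW * g⁻¹ = D.emb uW ∧ g * D.emb uW * g⁻¹ = D.emb zW ∧
      g * D.emb yW * g⁻¹ = D.emb yW ∧ g * D.emb pW * g⁻¹ = D.emb pW' ∧ g * D.emb qW * g⁻¹ = D.emb qW' := by
    let c : W →* G := (MulAut.conj g3).toMonoidHom.comp D.emb
    have cv : ∀ w, c w = g3 * D.emb w * g3⁻¹ := fun w => rfl
    have hp2 : g3 * D.emb pW' * g3⁻¹ = D.emb pW := by
      rw [← cv, word_p', eval_map, cv, cv, cv, hy3, hp3, hq3, ← eval_map D.emb, back_p]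
    have hq2 : g3 * D.emb qW' * g3⁻¹ = D.emb qW := by
      rw [← cv, word_q', eval_map, cv, cv, cv, hy3, hp3, hq3, ← eval_map D.emb, back_q]
    obtain ⟨X, hX⟩ := D.onto (g3 * g3) (by
      rw [← D.emb_z]
      refine mul_inv_eq_iff_eq_mul.1 ?_
      rw [show g3 * g3 * D.emb zW * (g3 * g3)⁻¹ = g3 * (g3 * D.emb zW * g3⁻¹) * g3⁻¹ by group, hz3, hu3])
    have hcomm : ∀ {a b : W}, g3 * D.emb a * g3⁻¹ = D.emb b → g3 * D.emb b * g3⁻¹ = D.emb a → X * a = a * X := fun {a b} h1 h2 =>
      D.inj (by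
        rw [map_mul, map_mul]
        refine mul_inv_eq_iff_eq_mul.1 ?_
        rw [hX, show g3 * g3 * D.emb a * (g3 * g3)⁻¹ = g3 * (g3 * D.emb a * g3⁻¹) * g3⁻¹ by group, h1, h2])
    have hfix : g3 * D.emb X * g3⁻¹ = D.emb X := by rw [hX]; group
    rcases four_cases (hcomm hu3 hz3) (hcomm hy3 hy3) (hcomm hp3 hp2) (hcomm hq3 hq2) with h | h | h | h <;>
      rw [h] at hX hfix
    · exact ⟨g3, by rw [← hX, map_one], hz3, hu3, hy3, hp3, hq3⟩
    · exact absurd (D.inj (hfix.symm.trans hz3)).symm uz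
    · exact absurd (D.inj (hfix.symm.trans hu3)) uz
    · have e : ∀ w, g3 * D.emb zW * D.emb w * (g3 * D.emb zW)⁻¹ = g3 * D.emb w * g3⁻¹ := fun w => by
        rw [show g3 * D.emb zW * D.emb w * (g3 * D.emb zW)⁻¹ = g3 * (D.emb zW * D.emb w * (D.emb zW)⁻¹) * g3⁻¹ by group, ← hzc,
          mul_inv_cancel_right]
      refine ⟨g3 * D.emb zW, ?_, by rw [e, hz3], by rw [e, hu3], by rw [e, hy3], by rw [e, hp3], by rw [e, hq3]⟩
      rw [show g3 * D.emb zW * (g3 * D.emb zW) = g3 * D.emb zW * g3⁻¹ * (g3 * g3) * D.emb zW by group, hz3, ← hX, ← map_mul,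
        ← map_mul, ← mul_assoc uW, zW_central uW, mul_assoc zW, uu, mul_one, zW_sq, map_one]
  have ginv : g⁻¹ = g := inv_eq_of_mul_eq_one_right gg
  refine ⟨g, gg, by rwa [ginv] at hz, by rwa [ginv] at hu, by rwa [ginv] at hy, by rwa [ginv] at hp,
    by rwa [ginv] at hq, ?_⟩
  -- the cube
  set S := g * D.emb sW with hS
  let c : W →* G := (MulAut.conj g).toMonoidHom.comp D.emb
  have cv : ∀ w, c w = g * D.emb w * g⁻¹ := fun w => rfl
  have step : ∀ (k : List (Fin 3)) {a b : W}, evalW yW pW qW k * sW = sW * a → evalW yW pW' qW' k = b →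
      S * D.emb a * S⁻¹ = D.emb b := by
    intro k a b h1 h2
    rw [hS, show g * D.emb sW * D.emb a * (g * D.emb sW)⁻¹ = g * (D.emb sW * D.emb a * (D.emb sW)⁻¹) * g⁻¹ by group, ← map_mul, ← h1, map_mul,
      mul_inv_cancel_right, ← cv, eval_map, cv, cv, cv, hy, hp, hq, ← eval_map D.emb, h2]
  have hSz : S * D.emb zW * S⁻¹ = D.emb uW := by
    rw [hS, show g * D.emb sW * D.emb zW * (g * D.emb sW)⁻¹ = g * (D.emb sW * D.emb zW * (D.emb sW)⁻¹) * g⁻¹ by group, hzc,
      mul_inv_cancel_right, hz]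
  have hSu : S * D.emb uW * S⁻¹ = D.emb (zW * uW) := by
    rw [hS, show g * D.emb sW * D.emb uW * (g * D.emb sW)⁻¹ = g * (D.emb sW * D.emb uW * (D.emb sW)⁻¹) * g⁻¹ by group, ← map_mul, su,
      map_mul, mul_inv_cancel_right, map_mul, cmul, hz, hu, ← hzc]
  have hSzu : S * D.emb (zW * uW) * S⁻¹ = D.emb zW := by
    rw [map_mul, cmul, hSz, hSu, map_mul, ← mul_assoc, hzc uW, mul_assoc, hu2, mul_one]
  have hSy : S * D.emb yW * S⁻¹ = D.emb yW := step [0] (by simp [evalW, sy]) (by simp [evalW])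
  obtain ⟨X, hX⟩ := D.onto (S * S * S) (by
    rw [← D.emb_z]
    refine mul_inv_eq_iff_eq_mul.1 ?_
    rw [show S * S * S * D.emb zW * (S * S * S)⁻¹ = S * (S * (S * D.emb zW * S⁻¹) * S⁻¹) * S⁻¹ by group, hSz, hSu, hSzu])
  have hcomm : ∀ {a b c : W}, S * D.emb a * S⁻¹ = D.emb b → S * D.emb b * S⁻¹ = D.emb c → S * D.emb c * S⁻¹ = D.emb a → X * a = a * X :=
    fun {a b c} h1 h2 h3 => D.inj (by
      rw [map_mul, map_mul]
      refine mul_inv_eq_iff_eq_mul.1 ?_
      rw [hX, show S * S * S * D.emb a * (S * S * S)⁻¹ = S * (S * (S * D.emb a * S⁻¹) * S⁻¹) * S⁻¹ by group, h1, h2, h3])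
  have hXp : X * pW = pW * X := by
    refine hcomm (step [1, 1, 0, 2, 1, 0] ?_ rfl) (step [1, 2, 1, 2, 0] ?_ rfl) (step [0, 1, 2, 1, 2] ?_ ?_)
    all_goals (apply eq_of_toT; simp only [toT_mul, toT_eval]; decide +kernel)
  have hXq : X * qW = qW * X := by
    refine hcomm (step [2] ?_ rfl) (step [0, 2, 1, 2, 2] ?_ rfl) (step [0, 1, 1, 2, 1, 1] ?_ ?_)
    all_goals (apply eq_of_toT; simp only [toT_mul, toT_eval]; decide +kernel)
  have hXu : X * uW = uW * X := hcomm hSu hSzu hSz
  have hfix : S * D.emb X * S⁻¹ = D.emb X := by rw [hX]; group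
  have e3 : S ^ 3 = D.emb X := by rw [hX, pow_succ, pow_two]
  rw [e3]
  rcases four_cases hXu (hcomm hSy hSy hSy) hXp hXq with h | h | h | h <;> rw [h] at hfix ⊢
  · exact map_one D.emb
  · exact absurd (D.inj (hfix.symm.trans hSz)).symm uz
  · exfalso
    have e := D.inj (hfix.symm.trans hSu)
    refine D.z_ne ?_
    rw [← D.emb_z, show zW = zW * uW * uW⁻¹ by group, ← e, mul_inv_cancel, map_one]
  · exfalso
    have e := D.inj (hfix.symm.trans hSzu)
    refine hu1 ?_
    rw [show uW = zW⁻¹ * (zW * uW) by group, e, inv_mul_cancel, map_one]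

/-- The second parabolic. -/
theorem exists_para [IsSimpleGroup G] (D : JT G) : ∃ g : G, Para D.emb g := by
  obtain ⟨g, h1, h2, h3, h4, h5, h6, h7⟩ := exists_letter D
  exact ⟨g, h1, h2, h3, h4, h5, h6, h7⟩

end Cfsg.Agent.JThreeUniq
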