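import Mathlib.Init

/-! Words for a linear group of degree two over sixteen elements. -/

set_option autoImplicit false

namespace Cfsg.Agent.JThreeUniq.SLSixteen

/-- Words of the upper root elements. -/
def xWords : List (List Nat) := [
  [],
  [0, 1, 0, 1, 1, 1, 1, 0, 0, 0, 1, 0, 0, 0, 0],
  [1, 1, 1, 1, 1, 0, 1, 0, 1, 1, 1, 0, 1, 0, 0, 0],
  [1, 1, 0, 0, 1, 1, 1, 0, 0, 1, 1, 1, 1, 1, 0, 0],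
  [1, 0, 0, 1, 1, 1, 1, 0, 1],
  [0, 0, 0, 0, 0, 1, 1, 1, 0, 1, 1, 1],
  [1, 0, 0, 1, 0, 1, 1, 1, 1, 1, 0, 1, 0, 0, 0, 0, 0],
  [0, 1, 1, 1, 1, 0, 0, 1, 1],
  [0, 0, 1, 1, 0, 0, 1, 1, 0, 0, 0, 0, 0],
  [0, 0, 1, 0, 0, 1, 0, 0, 0, 1, 1, 0, 0],
  [0, 1, 0, 0, 1, 0, 0, 1, 0, 1, 0, 1, 0, 1, 0],
  [1, 0, 0, 1, 0, 0, 1, 0, 1, 0, 0, 0, 1, 0, 1],
  [1, 1, 0, 0, 0, 1, 0, 1, 1, 0, 0, 0, 0, 0, 1],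
  [1, 1, 0, 1, 1, 1, 1, 0, 0],
  [0, 1, 0, 0, 0, 0, 1, 1, 1, 1, 1, 0],
  [0, 1, 1, 1, 1, 0, 1, 1, 1, 1, 0, 0, 0, 0]]

/-- Words of the torus. -/
def hWords : List (List Nat) := [
  [],
  [],
  [1, 0, 0, 1, 0, 0, 1, 0, 0, 1, 1, 1, 1, 1],
  [0, 0, 0, 1, 0, 1, 0, 1, 0, 0, 1, 1, 1, 0, 0],
  [1, 1, 0, 0, 1, 1, 1, 0, 0, 0, 0, 1],
  [0, 0, 1, 0, 0, 1, 1, 1, 1, 0, 0, 1],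
  [0, 0, 0, 1, 1, 0, 0, 1, 0, 1, 1, 1],
  [0, 1, 0, 1, 0, 0, 1, 0, 0, 0, 0, 0, 0, 0, 1, 0],
  [1, 1, 1, 1, 0, 1, 1, 1, 1, 0, 0, 1, 1],
  [0, 1, 1, 1, 1, 1, 0, 1, 1, 1, 0],
  [1, 0, 0, 1, 1, 1, 1, 0, 1, 1, 1],
  [0, 1, 1, 1, 1, 1, 1, 1, 0, 0, 0, 0, 1, 1, 1, 0],
  [1, 1, 1, 0, 1, 1, 1, 1, 1, 0, 0, 0, 0, 0],
  [1, 1, 0, 1, 0, 1, 0, 0, 0, 1, 1, 0],
  [1, 0, 0, 1, 0, 1, 1, 0, 0, 0, 0, 1, 0, 0, 1],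
  [1, 0, 1, 0, 1, 1, 1, 0, 1, 0, 0, 0]]

/-- Word of the reflection. -/
def wWord : List Nat := [1, 1, 0, 0, 0, 1, 1, 0, 0, 0, 1, 1, 1, 1]

/-- Word of the outer involution. -/
def fWord : List Nat := [1, 1, 0, 1, 0, 0, 0, 1, 0, 0, 1, 1, 1]

end Cfsg.Agent.JThreeUniq.SLSixteen
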