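import Cfsg.Agent.JankoThree.Sub
import Cfsg.Agent.U34.Field
import Cfsg.Agent.Chev.SL2Hom
import Cfsg.Agent.Classical.LinearBasic
import Cfsg.Agent.JThreeUniq.SLSixteenData

/-!
The group `J₃` contains a linear group of degree two over sixteen elements extended by an outer
involution: the relations of root elements are verified on coded matrices.
-/

set_option autoImplicit false
set_option linter.all false
set_option maxRecDepth 100000

namespace Cfsg.Agent.JThreeUniq

open Cfsg.Agent.JankoThree Cfsg.Agent.U34 Matrix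
open Cfsg.Spor (F9)

namespace SLSixteen

/-- A word of the list of upper root elements. -/
def xW (t : F16) : List Nat := xWords.getD t.val.val []

/-- A word of the list of torus elements. -/
def hW (t : F16) : List Nat := hWords.getD t.val.val []

/-- The code of an upper root element. -/
noncomputable def xC (t : F16) : Nat := C1.word (xW t)

/-- The code of the reflection. -/
noncomputable def wC : Nat := C1.word wWord

/-- The code of a lower root element. -/
noncomputable def yC (t : F16) : Nat := mmul wC (mmul (xC t) wC)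

/-- The code of a torus element. -/
noncomputable def hC (t : F16) : Nat := C1.word (hW t)

/-- The code of the outer involution. -/
noncomputable def fC : Nat := C1.word fWord

theorem X_add_code : ∀ s t : F16, mmul (xC s) (xC t) = xC (s + t) := by decide +kernel

theorem W_sq_code : mmul wC wC = idM := by decide +kernel

theorem H_one_code : hC 1 = idM := by decide +kernel

theorem H_mul_code : ∀ a b : F16, a ≠ 0 → b ≠ 0 → hC (a * b) = mmul (hC a) (hC b) := by decide +kernel

theorem H_X_code : ∀ a t : F16, a ≠ 0 → mmul (hC a) (xC t) = mmul (xC (a * a * t)) (hC a) := by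
  decide +kernel

theorem H_def_code : ∀ a : F16, a ≠ 0 → hC a =
    mmul (mmul (mmul (xC a) (yC a⁻¹)) (xC a)) (mmul (mmul (xC 1) (yC 1)) (xC 1)) := by decide +kernel

theorem W_X_code : ∀ t : F16, mmul (mmul (mmul (xC 1) (yC 1)) (xC 1)) (xC t) =
    mmul (yC t) (mmul (mmul (xC 1) (yC 1)) (xC 1)) := by decide +kernel

theorem W_def_code : mmul (mmul (xC 1) (yC 1)) (xC 1) = wC := by decide +kernel

theorem F_sq_code : mmul fC fC = idM := by decide +kernel

theorem F_X_code : ∀ t : F16, mmul fC (xC t) = mmul (xC (t * t * (t * t))) fC := by decide +kernel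

theorem F_W_code : mmul fC wC = mmul wC fC := by decide +kernel

theorem entry_code : (col (xC 1) 0).testBit 4 = false ∧ (col (xC 1) 0).testBit 13 = true := by
  decide +kernel

theorem aut_ne : ∃ t : F16, t * t * (t * t) ≠ t := by decide +kernel

section

variable {F : Type} [Field F] {ω : F}

/-- A word evaluated in `threeJ3`. -/
def el (b0 b1 : Spor.threeJ3 F ω) (w : List Nat) : Spor.threeJ3 F ω :=
  (w.map fun a => if a = 0 then b0 else b1).prod

theorem el_den (hr : Root F ω) {b0 b1 : Spor.threeJ3 F ω}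
    (h0 : ((b0 : GL F9 F) : Matrix F9 F9 F) = den ω C1.g0)
    (h1 : ((b1 : GL F9 F) : Matrix F9 F9 F) = den ω C1.g1) (w : List Nat) :
    ((el b0 b1 w : GL F9 F) : Matrix F9 F9 F) = den ω (C1.word w) := by
  induction w with
  | nil =>
    show ((1 : GL F9 F) : Matrix F9 F9 F) = den ω idM
    rw [Units.val_one, Root.den_idM]
  | cons a w ih =>
    change _ = den ω (mmul (cond (Nat.beq a 0) C1.g0 C1.g1) (C1.word w))
    rw [hr.den_mmul, el, List.map_cons, List.prod_cons, Subgroup.coe_mul, Units.val_mul]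
    refine congrArg₂ (· * ·) ?_ ih
    split_ifs with ha
    · subst ha; exact h0
    · rw [show Nat.beq a 0 = false from Bool.eq_false_iff.2 fun e => ha (Nat.eq_of_beq_eq_true e)]
      exact h1

end

theorem simple_sl2 : IsSimpleGroup (SpecialLinearGroup (Fin 2) F16) := by
  have hcen : Subgroup.center (SpecialLinearGroup (Fin 2) F16) = ⊥ := by
    refine (Subgroup.eq_bot_iff_forall _).2 fun c hc => ?_
    obtain ⟨x, hx, hc'⟩ := Matrix.SpecialLinearGroup.mem_center_iff.1 hc
    have key : ∀ y : F16, y * y = 1 → y = 1 := by decide +kernel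
    rw [Fintype.card_fin, pow_two] at hx
    rw [key x hx, map_one] at hc'
    exact Subtype.ext hc'.symm
  have hx : ∃ x : F16, x ≠ 0 ∧ x ^ 2 ≠ 1 := by
    refine ⟨ofNat16 2, by decide +kernel, ?_⟩
    rw [pow_two]; decide +kernel
  have hsimp := Classical.isSimpleGroup_psl (ι := Fin 2) (F := F16) (Or.inr ⟨by simp, hx⟩)
  let q : Matrix.ProjectiveSpecialLinearGroup (Fin 2) F16 ≃* SpecialLinearGroup (Fin 2) F16 :=
    (QuotientGroup.quotientMulEquivOfEq hcen).trans QuotientGroup.quotientBot
  exact MulEquiv.isSimpleGroup q.symm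

end SLSixteen

open SLSixteen in
/-- `J₃` contains the linear group of degree two over sixteen elements with index two. -/
theorem exists_sl2_16 {G : Type*} [Group G] (h : Cfsg.Spor.IsoJ3 G) :
    ∃ (H : Subgroup G) (N : Subgroup H) (K : Type) (_ : Field K) (_ : Fintype K),
      N.Normal ∧ N.index = 2 ∧ Fintype.card K = 16 ∧
      Nonempty (N ≃* Matrix.SpecialLinearGroup (Fin 2) K) := by
  obtain ⟨F, _, _, ω, hF, hω, ⟨e⟩⟩ := h
  have hr : Root F ω := Root.of_card hF hω
  obtain ⟨c0, c1, -, -⟩ := sub_codes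
  have hmem : ∀ k < 2, ∃ u ∈ Spor.threeJ3 F ω,
      (u : Matrix F9 F9 F) = den ω (subData.getD k (0, 0, 0)).1 := by
    intro k hk
    have hk' : k < subData.length := by
      have : subData.length = 2 := rfl
      omega
    refine mem_threeJ3 hr ?_
    rw [List.getD_eq_getElem _ _ hk']
    exact List.mem_append_left _ (List.mem_append_right _ (List.getElem_mem hk'))
  obtain ⟨u0, hu0, e0⟩ := hmem 0 (by norm_num)
  obtain ⟨u1, hu1, e1⟩ := hmem 1 (by norm_num)
  rw [c0] at e0
  rw [c1] at e1
  let b0 : Spor.threeJ3 F ω := ⟨u0, hu0⟩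
  let b1 : Spor.threeJ3 F ω := ⟨u1, hu1⟩
  let E : List Nat → Spor.threeJ3 F ω := el b0 b1
  have hE : ∀ w, ((E w : GL F9 F) : Matrix F9 F9 F) = den ω (C1.word w) := el_den hr e0 e1
  have eq_of : ∀ a b : Spor.threeJ3 F ω,
      ((a : GL F9 F) : Matrix F9 F9 F) = ((b : GL F9 F) : Matrix F9 F9 F) → a = b :=
    fun a b hab => Subtype.ext (Units.ext hab)
  have dm : ∀ (a b : Spor.threeJ3 F ω) (m n : Nat), ((a : GL F9 F) : Matrix F9 F9 F) = den ω m →
      ((b : GL F9 F) : Matrix F9 F9 F) = den ω n →
      (((a * b : Spor.threeJ3 F ω) : GL F9 F) : Matrix F9 F9 F) = den ω (mmul m n) := by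
    intro a b m n ha hb
    rw [Subgroup.coe_mul, Units.val_mul, ha, hb, hr.den_mmul]
  let W : Spor.threeJ3 F ω := E wWord
  let X : F16 → Spor.threeJ3 F ω := fun t => E (xW t)
  let Y : F16 → Spor.threeJ3 F ω := fun t => W * (X t * W)
  let f : Spor.threeJ3 F ω := E fWord
  have dX : ∀ t, ((X t : GL F9 F) : Matrix F9 F9 F) = den ω (xC t) := fun t => hE _
  have dW : ((W : GL F9 F) : Matrix F9 F9 F) = den ω wC := hE _
  have dF : ((f : GL F9 F) : Matrix F9 F9 F) = den ω fC := hE _
  have dY : ∀ t, ((Y t : GL F9 F) : Matrix F9 F9 F) = den ω (yC t) := fun t =>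
    dm _ _ _ _ dW (dm _ _ _ _ (dX t) dW)
  have dH : ∀ t, ((E (hW t) : GL F9 F) : Matrix F9 F9 F) = den ω (hC t) := fun t => hE _
  have hX : ∀ s t, X s * X t = X (s + t) := fun s t =>
    eq_of _ _ (by rw [dm _ _ _ _ (dX s) (dX t), dX, X_add_code])
  have hWW : W * W = 1 := eq_of _ _ (by
    rw [dm _ _ _ _ dW dW, W_sq_code, Root.den_idM]; simp)
  let Hh : F16ˣ →* Spor.threeJ3 F ω :=
    { toFun := fun a => E (hW (a : F16))
      map_one' := eq_of _ _ (by rw [dH, Units.val_one, H_one_code, Root.den_idM]; simp)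
      map_mul' := fun a b => eq_of _ _ (by
        rw [dm _ _ _ _ (dH _) (dH _), dH, Units.val_mul, H_mul_code _ _ a.ne_zero b.ne_zero]) }
  have dn : (((X 1 * Y 1 * X 1 : Spor.threeJ3 F ω) : GL F9 F) : Matrix F9 F9 F) =
      den ω (mmul (mmul (xC 1) (yC 1)) (xC 1)) :=
    dm _ _ _ _ (dm _ _ _ _ (dX 1) (dY 1)) (dX 1)
  let S : Chev.SL2Data F16 (Spor.threeJ3 F ω) :=
    { X := X
      Y := Y
      H := Hh
      X_add := hX
      Y_add := fun s t => by
        show W * (X s * W) * (W * (X t * W)) = W * (X (s + t) * W)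
        calc W * (X s * W) * (W * (X t * W)) = W * (X s * (W * W) * X t * W) := by
              simp only [mul_assoc]
          _ = _ := by rw [hWW, mul_one, hX]
      H_X := fun a t => eq_of _ _ (by
        show (((E (hW (a : F16)) * X t : Spor.threeJ3 F ω) : GL F9 F) : Matrix F9 F9 F) =
          (((X ((a : F16) ^ 2 * t) * E (hW (a : F16)) : Spor.threeJ3 F ω) : GL F9 F) : Matrix F9 F9 F)
        rw [dm _ _ _ _ (dH _) (dX t), dm _ _ _ _ (dX _) (dH _), pow_two,
          H_X_code _ t a.ne_zero])
      H_def := fun a => eq_of _ _ (by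
        show ((E (hW (a : F16)) : GL F9 F) : Matrix F9 F9 F) =
          (((X (a : F16) * Y (a : F16)⁻¹ * X (a : F16) * (X 1 * Y 1 * X 1) :
            Spor.threeJ3 F ω) : GL F9 F) : Matrix F9 F9 F)
        rw [dH, dm _ _ _ _ (dm _ _ _ _ (dm _ _ _ _ (dX _) (dY _)) (dX _)) dn,
          ← H_def_code _ a.ne_zero])
      W_X := fun t => by
        show X 1 * Y 1 * X 1 * X t = Y t * (X 1 * Y 1 * X 1)
        exact eq_of _ _ (by rw [dm _ _ _ _ dn (dX t), dm _ _ _ _ (dY t) dn, W_X_code]) }
  -- the image in the quotient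
  let π : Spor.threeJ3 F ω →* G := e.symm.toMonoidHom.comp (QuotientGroup.mk' _)
  let ψ : SpecialLinearGroup (Fin 2) F16 →* G := π.comp S.hom
  have hπ : ∀ a, π a = 1 → a ∈ Subgroup.center (Spor.threeJ3 F ω) := fun a ha =>
    (QuotientGroup.eq_one_iff a).1 (e.symm.map_eq_one_iff.1 ha)
  have hψu : ∀ t, ψ (Chev.SL2Data.upper t) = π (X t) := fun t =>
    congrArg π (S.toFun_upper t)
  have hψw : ψ (Chev.SL2Data.weyl (F := F16)) = π W := by
    refine congrArg π (S.toFun_weyl.trans (eq_of _ _ ?_))
    show (((X 1 * Y (-1⁻¹) * X 1 : Spor.threeJ3 F ω) : GL F9 F) : Matrix F9 F9 F) = _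
    rw [show (-1⁻¹ : F16) = 1 from by decide +kernel, dn, W_def_code, dW]
  have := simple_sl2
  have hinj : Function.Injective ψ := by
    rw [← MonoidHom.ker_eq_bot_iff]
    refine ((MonoidHom.normal_ker ψ).eq_bot_or_eq_top).resolve_right fun htop => ?_
    have h1 : π (X 1) = 1 := by
      rw [← hψu]; exact MonoidHom.mem_ker.1 (htop ▸ Subgroup.mem_top _)
    have hM := scalar_of_commute hr (M := ((X 1 : GL F9 F) : Matrix F9 F9 F)) (fun g hg => by
      have := congrArg (fun x : Spor.threeJ3 F ω => ((x : GL F9 F) : Matrix F9 F9 F))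
        (Subgroup.mem_center_iff.1 (hπ _ h1) ⟨g, hg⟩)
      simpa using this)
    have he : ((X 1 : GL F9 F) : Matrix F9 F9 F) (1, 1) (0, 0) = ω := by
      rw [dX]
      show ent ω (col (xC 1) 0) 4 = ω
      simp [ent, entry_code.1, entry_code.2]
    have hz : ((X 1 : GL F9 F) : Matrix F9 F9 F) (1, 1) (0, 0) = 0 := by
      rw [hM]
      simp [Matrix.one_apply]
    exact hr.ne_zero (he.symm.trans hz)
  set N0 := ψ.range with hN0
  set g := π f with hg
  have hff : g * g = 1 := by
    rw [hg, ← map_mul, show f * f = 1 from eq_of _ _ (by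
      rw [dm _ _ _ _ dF dF, F_sq_code, Root.den_idM]; simp), map_one]
  have hgX : ∀ t, g * π (X t) = π (X (t * t * (t * t))) * g := fun t => by
    rw [hg, ← map_mul, ← map_mul, eq_of _ _
      ((dm f (X t) _ _ dF (dX t)).trans ((congrArg (den ω) (F_X_code t)).trans
        (dm _ f _ _ (dX _) dF).symm))]
  have hgW : g * π W = π W * g := by
    rw [hg, ← map_mul, ← map_mul, eq_of _ _
      ((dm f W _ _ dF dW).trans ((congrArg (den ω) F_W_code).trans (dm W f _ _ dW dF).symm))]
  have hginv : g⁻¹ = g := inv_eq_of_mul_eq_one_right hff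
  have hnorm : ∀ a, a ∈ N0 → g * a * g ∈ N0 := by
    rintro _ ⟨s, rfl⟩
    have hm : s ∈ Submonoid.closure
        (Set.range (Chev.SL2Data.upper (F := F16)) ∪ {Chev.SL2Data.weyl}) := by
      rw [Chev.SL2Data.closure_generators]; exact Submonoid.mem_top _
    induction hm using Submonoid.closure_induction with
    | mem x hx =>
      rcases hx with ⟨t, rfl⟩ | rfl
      · rw [hψu, hgX, mul_assoc, hff, mul_one, ← hψu]; exact ⟨_, rfl⟩
      · rw [hψw, hgW, mul_assoc, hff, mul_one, ← hψw]; exact ⟨_, rfl⟩
    | one => rw [map_one, mul_one, hff]; exact one_mem _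
    | mul x y _ _ hx hy =>
      rw [map_mul, show g * (ψ x * ψ y) * g = g * ψ x * g * (g * ψ y * g) by
        calc g * (ψ x * ψ y) * g = g * ψ x * 1 * ψ y * g := by simp only [mul_one, mul_assoc]
          _ = _ := by rw [← hff]; simp only [mul_assoc]]
      exact mul_mem hx hy
  have hgN : g ∉ N0 := by
    rintro ⟨s, hs⟩
    have key : ∀ t, s * Chev.SL2Data.upper t = Chev.SL2Data.upper (t * t * (t * t)) * s :=
      fun t => hinj (by rw [map_mul, map_mul, hψu, hψu, hs, hgX])
    let M : Matrix (Fin 2) (Fin 2) F16 := (s : Matrix (Fin 2) (Fin 2) F16)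
    have hM : ∀ t : F16, M * !![1, t; 0, 1] = !![1, t * t * (t * t); 0, 1] * M := fun t => by
      have := congrArg (fun A : SpecialLinearGroup (Fin 2) F16 => (A : Matrix (Fin 2) (Fin 2) F16)) (key t)
      exact this
    have h10 : ∀ t : F16, M 1 0 * t + M 1 1 = M 1 1 := fun t => by
      simpa [Matrix.mul_apply, Fin.sum_univ_two] using congrFun (congrFun (hM t) 1) 1
    have hc : M 1 0 = 0 := by
      have := h10 1; simpa using this
    have hd : ∀ t : F16, M 0 0 * t = t * t * (t * t) * M 1 1 := fun t => by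
      simpa [Matrix.mul_apply, Fin.sum_univ_two, add_comm (M 0 0 * t)] using congrFun (congrFun (hM t) 0) 1
    have had : M 0 0 * M 1 1 = 1 := by
      have := s.2
      change M.det = 1 at this
      rw [Matrix.det_fin_two, hc] at this
      simpa using this
    obtain ⟨t, ht⟩ := aut_ne
    have h1 := hd 1
    simp only [mul_one, one_mul] at h1
    have h2 := hd t
    rw [h1] at h2
    have hne : M 1 1 ≠ 0 := fun z => by rw [z, mul_zero] at had; exact zero_ne_one had
    exact ht (mul_right_cancel₀ hne (by rw [← h2, mul_comm]))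
  let H : Subgroup G :=
    { carrier := {x | x ∈ N0 ∨ g * x ∈ N0}
      one_mem' := Or.inl (one_mem _)
      mul_mem' := by
        rintro a b (ha | ha) (hb | hb)
        · exact Or.inl (mul_mem ha hb)
        · refine Or.inr ?_
          rw [show g * (a * b) = g * a * g * (g * b) by
            calc g * (a * b) = g * a * 1 * b := by simp only [mul_one, mul_assoc]
              _ = _ := by rw [← hff]; simp only [mul_assoc]]
          exact mul_mem (hnorm a ha) hb
        · refine Or.inr ?_
          rw [← mul_assoc]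
          exact mul_mem ha hb
        · refine Or.inl ?_
          have h3 := mul_mem (hnorm _ ha) hb
          rwa [show g * (g * a) * g * (g * b) = a * b by
            calc g * (g * a) * g * (g * b) = g * g * a * (g * g) * b := by simp only [mul_assoc]
              _ = _ := by rw [hff, one_mul, mul_one]] at h3
      inv_mem' := by
        rintro a (ha | ha)
        · exact Or.inl (inv_mem ha)
        · refine Or.inr ?_
          have h3 := hnorm _ (inv_mem ha)
          rwa [_root_.mul_inv_rev, hginv, show g * (a⁻¹ * g) * g = g * a⁻¹ * (g * g) by simp only [mul_assoc],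
            hff, mul_one] at h3 }
  have hle : N0 ≤ H := fun a ha => Or.inl ha
  have hidx : (N0.subgroupOf H).index = 2 := by
    refine Subgroup.index_eq_two_iff.2 ⟨⟨g, Or.inr (by rw [hff]; exact one_mem _)⟩, ?_⟩
    rintro ⟨b, hb | hb⟩
    · refine Or.inr ⟨hb, fun hbg => hgN ?_⟩
      rw [Subgroup.mem_subgroupOf] at hbg
      exact (Subgroup.mul_mem_cancel_left _ hb).1 hbg
    · have hbg : b * g ∈ N0 := by
        have h3 := hnorm _ hb
        rwa [show g * (g * b) * g = g * g * b * g by simp only [mul_assoc], hff, one_mul] at h3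
      refine Or.inl ⟨hbg, fun hb0 => hgN ?_⟩
      rw [Subgroup.mem_subgroupOf] at hb0
      exact (Subgroup.mul_mem_cancel_left _ hb0).1 hbg
  exact ⟨H, N0.subgroupOf H, F16, inferInstance, inferInstance,
    Subgroup.normal_of_index_eq_two hidx, hidx, F16.card,
    ⟨(Subgroup.subgroupOfEquivOfLe hle).trans (MonoidHom.ofInjective hinj).symm⟩⟩

end Cfsg.Agent.JThreeUniq
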